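import Mathlib
import Groth.Agent.Lib.Helper3.AlgSt.DiagCharts
import Groth.Agent.Lib.Helper3.StackMore
import Groth.Agent.Lib.Helper3.UnivInjComp

/-!
# The fibres of the diagonal over the base, pointwise (helper3)

For `y : (Sch/U) ⟶ 𝒳 ×_S 𝒳` the 2-fibre product of `y` with the diagonal is equivalent, compatibly
with the projections to `(Sch/U)`, to a 2-fibre product of 2-fibre products of slices over `𝒳`; it
is therefore fibred in setoids and a stack as soon as `𝒳` is a prestack.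
-/

set_option autoImplicit false
universe v₂ u₂ v₃ u₃ v u
open CategoryTheory CategoryTheory.Functor CategoryTheory.Limits Opposite AlgebraicGeometry

namespace Groth.Agent.H3.QDiag

open Groth.Agent.H3.FibCatAux Groth.Agent.H3.GerbAux Groth.Agent.H3.FpCalc Groth.Agent.H3.TwoCart
  Groth.Agent.H3.StackPsh Groth.Agent.H3.PshBridge Groth.Agent.H3.AlgStAux Groth.Agent.H3.RepBridge
  Groth.Agent.H3.SetoidPsh Groth.Agent.H3.BaseChangeSp Groth.Agent.H3.AlgStComp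
  Groth.Agent.H3.AlgStCharts Groth.Agent.H3.AlgStProd Groth.Agent.H3.AlgStDiag
  Groth.Agent.H3.StackMore
open AlgSp

variable {S : Scheme.{u}} {𝒳 : AlgSt.Cat S}

/-- the pointwise form of the comparison of the diagonal with charts -/
theorem exists_equiv_diag (U : Over S)
    (y : FibCat.overCat U ⥤ᵇ FibCat.fp (FibCat.toSelf 𝒳) (FibCat.toSelf 𝒳)) :
    ∃ (x₁ x₂ : FibCat.overCat U ⥤ᵇ 𝒳)
      (δ : FibCat.overCat U ⥤ᵇ FibCat.fp (BasedFunctor.comp x₁ (FibCat.toSelf 𝒳))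
        (BasedFunctor.comp x₂ (FibCat.toSelf 𝒳)))
      (M : FibCat.fp δ (magicI x₁ x₂ (FibCat.toSelf 𝒳) (magicIso x₁ x₂ (FibCat.toSelf 𝒳))) ⥤ᵇ
        FibCat.fp y (FibCat.diag (FibCat.toSelf 𝒳))),
      FibCat.IsEquivOver M ∧
        (∀ ω, (FibCat.fpFst y (FibCat.diag (FibCat.toSelf 𝒳))).obj (M.obj ω) =
          (FibCat.fpFst δ
            (magicI x₁ x₂ (FibCat.toSelf 𝒳) (magicIso x₁ x₂ (FibCat.toSelf 𝒳)))).obj ω) ∧
        x₁ = BasedFunctor.comp y (FibCat.fpFst _ _) ∧ x₂ = BasedFunctor.comp y (FibCat.fpSnd _ _) := by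
  let x₁ : FibCat.overCat U ⥤ᵇ 𝒳 := BasedFunctor.comp y (FibCat.fpFst _ _)
  let x₂ : FibCat.overCat U ⥤ᵇ 𝒳 := BasedFunctor.comp y (FibCat.fpSnd _ _)
  let e₀ : BasedFunctor.comp (BasedFunctor.id (FibCat.overCat U))
        (BasedFunctor.comp x₁ (FibCat.toSelf 𝒳)) ≅
      BasedFunctor.comp (BasedFunctor.id (FibCat.overCat U))
        (BasedFunctor.comp x₂ (FibCat.toSelf 𝒳)) :=
    eqToIso ((eq_toSelf _).trans (eq_toSelf _).symm)
  let δ : FibCat.overCat U ⥤ᵇ FibCat.fp (BasedFunctor.comp x₁ (FibCat.toSelf 𝒳))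
      (BasedFunctor.comp x₂ (FibCat.toSelf 𝒳)) :=
    FibCat.fpLift (BasedFunctor.id _) (BasedFunctor.id _) e₀
  have he : ∀ W, (magicIso x₁ x₂ (FibCat.toSelf 𝒳)).hom.toNatTrans.app W =
      (FibCat.toSelf 𝒳).map W.obj.iso.hom := fun W => magicIso_app x₁ x₂ _ W
  have hw : ∀ a : (FibCat.overCat U).obj,
      (FibCat.toSelf 𝒳).map (Iso.refl (y.obj a).obj.fst).hom ≫
        ((BasedFunctor.comp δ (magicR x₁ x₂ (FibCat.toSelf 𝒳))).obj a).obj.iso.hom =
      (y.obj a).obj.iso.hom ≫ (FibCat.toSelf 𝒳).map (Iso.refl (y.obj a).obj.snd).hom := by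
    intro a
    have b1 : (FibCat.toSelf 𝒳).map (Iso.refl (y.obj a).obj.fst).hom = 𝟙 _ :=
      (FibCat.toSelf 𝒳).toFunctor.map_id _
    have b2 : (FibCat.toSelf 𝒳).map (Iso.refl (y.obj a).obj.snd).hom = 𝟙 _ :=
      (FibCat.toSelf 𝒳).toFunctor.map_id _
    rw [b1, b2, Category.id_comp, Category.comp_id]
    have c1 : (𝟭 (Over S)).IsHomLift (𝟙 (𝒳.p.obj (y.obj a).obj.fst)) (y.obj a).obj.iso.hom :=
      (y.obj a).property
    have c2 : (𝟭 (Over S)).IsHomLift (𝟙 (𝒳.p.obj (y.obj a).obj.fst))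
        ((BasedFunctor.comp δ (magicR x₁ x₂ (FibCat.toSelf 𝒳))).obj a).obj.iso.hom :=
      ((BasedFunctor.comp δ (magicR x₁ x₂ (FibCat.toSelf 𝒳))).obj a).property
    exact selfOver_hom_eq _ _ c2 c1
  let ι : y ≅ BasedFunctor.comp δ (magicR x₁ x₂ (FibCat.toSelf 𝒳)) :=
    BasedNatIso.mkNatIso
      (NatIso.ofComponents
        (fun a => fpIsoMk (X := y.obj a)
          (Y := (BasedFunctor.comp δ (magicR x₁ x₂ (FibCat.toSelf 𝒳))).obj a)
          (Iso.refl _) (Iso.refl _) (hw a))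
        (by
          intro a a' φ
          apply fp_hom_ext
          · show (y.map φ).hom.fst ≫ 𝟙 _ = 𝟙 _ ≫ (y.map φ).hom.fst
            rw [Category.comp_id, Category.id_comp]
          · show (y.map φ).hom.snd ≫ 𝟙 _ = 𝟙 _ ≫ (y.map φ).hom.snd
            rw [Category.comp_id, Category.id_comp]))
      (by
        intro a
        rw [fp_isHomLift_iff]
        show 𝒳.p.IsHomLift (𝟙 _) (𝟙 (y.obj a).obj.fst)
        exact IsHomLift.of_fac' 𝒳.p _ _ ((FibCat.fpFst _ _).w_obj (y.obj a) |>.trans (y.w_obj a))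
          ((FibCat.fpFst _ _).w_obj (y.obj a) |>.trans (y.w_obj a)) (by simp))
  -- the three equivalences
  let I := magicI x₁ x₂ (FibCat.toSelf 𝒳) (magicIso x₁ x₂ (FibCat.toSelf 𝒳))
  let R := magicR x₁ x₂ (FibCat.toSelf 𝒳)
  let L := magicL x₁ x₂
  let E := magicE x₁ x₂ (FibCat.toSelf 𝒳) (magicIso x₁ x₂ (FibCat.toSelf 𝒳)) he
  have hcart := magic_isTwoCartOver x₁ x₂ (FibCat.toSelf 𝒳) (magicIso x₁ x₂ _) he
  let α : BasedFunctor.comp δ (BasedFunctor.id _) ≅ BasedFunctor.comp (BasedFunctor.id _) δ :=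
    Iso.refl _
  let β : BasedFunctor.comp I (BasedFunctor.id _) ≅
      BasedFunctor.comp (FibCat.fpLift I L E) (FibCat.fpFst R (FibCat.diag (FibCat.toSelf 𝒳))) :=
    Iso.refl _
  let N₁ := fpMap (F' := δ) (G' := I) (F := δ)
    (G := FibCat.fpFst R (FibCat.diag (FibCat.toSelf 𝒳))) (BasedFunctor.id _)
    (FibCat.fpLift I L E) (BasedFunctor.id _) α β
  have hN₁ : FibCat.IsEquivOver N₁ := by
    have : (BasedFunctor.id (FibCat.fp (BasedFunctor.comp x₁ (FibCat.toSelf 𝒳))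
        (BasedFunctor.comp x₂ (FibCat.toSelf 𝒳)))).toFunctor.Full := Functor.Full.id
    have : (BasedFunctor.id (FibCat.fp (BasedFunctor.comp x₁ (FibCat.toSelf 𝒳))
        (BasedFunctor.comp x₂ (FibCat.toSelf 𝒳)))).toFunctor.Faithful := Functor.Faithful.id
    exact isEquivOver_fpMap _ _ _ _ _ isEquivOver_id hcart
  let α₂ : BasedFunctor.comp (BasedFunctor.comp δ R) (BasedFunctor.id _) ≅
      BasedFunctor.comp (BasedFunctor.id _) y := ι.symm
  let N₂ := fpMap (F' := BasedFunctor.comp δ R) (G' := FibCat.diag (FibCat.toSelf 𝒳)) (F := y)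
    (G := FibCat.diag (FibCat.toSelf 𝒳)) (BasedFunctor.id _) (BasedFunctor.id _)
    (BasedFunctor.id _) α₂ (idSq (FibCat.diag (FibCat.toSelf 𝒳)))
  have hN₂ : FibCat.IsEquivOver N₂ := by
    have : (BasedFunctor.id (FibCat.fp (FibCat.toSelf 𝒳) (FibCat.toSelf 𝒳))).toFunctor.Full :=
      Functor.Full.id
    have : (BasedFunctor.id (FibCat.fp (FibCat.toSelf 𝒳) (FibCat.toSelf 𝒳))).toFunctor.Faithful :=
      Functor.Faithful.id
    exact isEquivOver_fpMap _ _ _ _ _ isEquivOver_id isEquivOver_id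
  refine ⟨x₁, x₂, δ, BasedFunctor.comp (BasedFunctor.comp N₁
      (pasteL δ R (FibCat.diag (FibCat.toSelf 𝒳)))) N₂,
    isEquivOver_comp _ _ (isEquivOver_comp _ _ hN₁ (isEquivOver_pasteL _ _ _)) hN₂,
    fun ω => rfl, rfl, rfl⟩

/-- the fibres of the diagonal over the base are fibred in setoids -/
theorem isFibSetoid_fp_diag (h𝒳 : FibCat.IsFibGrpd 𝒳.p) (U : Over S)
    (y : FibCat.overCat U ⥤ᵇ FibCat.fp (FibCat.toSelf 𝒳) (FibCat.toSelf 𝒳)) :
    FibCat.IsFibSetoid (FibCat.fp y (FibCat.diag (FibCat.toSelf 𝒳))).p := by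
  obtain ⟨x₁, x₂, δ, M, hM, -, -, -⟩ := exists_equiv_diag U y
  refine isFibSetoid_of_isEquivOver M hM ?_
  have hU := isFibSetoid_overCat U
  exact isFibSetoid_fp _ _ hU (isFibSetoid_fp _ _ hU hU h𝒳)
    (X6401 _ _ hU.1 hU.1 isFibGrpd_id)

/-- the fibres of the diagonal over the base of a prestack are stacks -/
theorem isStack_fp_diag (J : GrothendieckTopology (Over S))
    (hover : ∀ U : Over S, Stk.IsStack J (FibCat.overCat U))
    (hself : Stk.IsPrestack J (FibCat.selfOver (Over S))) (hpre : Stk.IsPrestack J 𝒳) (U : Over S)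
    (y : FibCat.overCat U ⥤ᵇ FibCat.fp (FibCat.toSelf 𝒳) (FibCat.toSelf 𝒳)) :
    Stk.IsStack J (FibCat.fp y (FibCat.diag (FibCat.toSelf 𝒳))) := by
  obtain ⟨x₁, x₂, δ, M, hM, -, -, -⟩ := exists_equiv_diag U y
  refine isStack_of_isEquivOver J M hM ?_
  have h1 : Stk.IsStack J (FibCat.fp x₁ x₂) := isStack_fp x₁ x₂ J (hover U) (hover U) hpre
  have h2 : Stk.IsStack J (FibCat.fp (BasedFunctor.comp x₁ (FibCat.toSelf 𝒳))
      (BasedFunctor.comp x₂ (FibCat.toSelf 𝒳))) := isStack_fp _ _ J (hover U) (hover U) hself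
  exact isStack_fp δ _ J (hover U) h1 (isPrestack_of_isStack _ h2)

end Groth.Agent.H3.QDiag
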