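import Mathlib
import Groth.Agent.Lib.Helper3.AlgSt.Descent

/-!
# From 2-fibre products to pullbacks of sheaves (helper3)

Let `π : 𝒲 ⟶ (Sch/U)` with `𝒲` equivalent to the category of a sheaf `F`, `a : F ⟶ h_U` the
attached map.  If the base change of `π` along `h : V ⟶ U` is representable by an algebraic
space with `P`, then the pullback of `a` along `h_V ⟶ h_U` is an algebraic space and its
projection to `h_V` has `P`.
-/

set_option autoImplicit false
universe v₂ u₂ v₃ u₃ v u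
open CategoryTheory CategoryTheory.Functor CategoryTheory.Limits Opposite AlgebraicGeometry

namespace Groth.Agent.H3.QDiag

open Groth.Agent.H3.FibCatAux Groth.Agent.H3.GerbAux Groth.Agent.H3.FpCalc Groth.Agent.H3.TwoCart
  Groth.Agent.H3.StackPsh Groth.Agent.H3.PshBridge Groth.Agent.H3.AlgStAux Groth.Agent.H3.RepBridge
  Groth.Agent.H3.SetoidPsh Groth.Agent.H3.BaseChangeSp Groth.Agent.H3.AlgStComp
  Groth.Agent.H3.AlgStProps Groth.Agent.H3.AlgStBridge2 Groth.Agent.H3.AlgStCharts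
  Groth.Agent.H3.AlgStDescent
open AlgSp

variable {S : Scheme.{u}} {𝒲 : AlgSt.Cat S} {U : Over S}

theorem bridge (P : MorphismProperty (Sp S)) (hc : IsoCancel P)
    (π : 𝒲 ⥤ᵇ FibCat.overCat U) (F : Sp S) (e : AlgSt.ofSp F ⥤ᵇ 𝒲) (he : FibCat.IsEquivOver e)
    {V : Over S} (h : V ⟶ U)
    (H : ∃ (F₁ : Space S) (e₁ : AlgSt.ofSp F₁.obj ⥤ᵇ FibCat.fp (AlgSt.overMap h) π),
      FibCat.IsEquivOver e₁ ∧
        P (AlgSt.spMapOfOver (BasedFunctor.comp e₁ (FibCat.fpFst (AlgSt.overMap h) π)))) :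
    IsAlgSpace (pullback (AlgSt.spMapOfOver (BasedFunctor.comp e π)) ((yon S).map h)) ∧
      P (pullback.snd (AlgSt.spMapOfOver (BasedFunctor.comp e π)) ((yon S).map h)) := by
  obtain ⟨Φ, hΦ⟩ : ∃ Φ : AlgSt.ofSp F ⥤ᵇ FibCat.overCat U, Φ = BasedFunctor.comp e π := ⟨_, rfl⟩
  obtain ⟨a, ha⟩ : ∃ a : F ⟶ (yon S).obj U, a = AlgSt.spMapOfOver Φ := ⟨_, rfl⟩
  rw [← hΦ, ← ha]
  obtain ⟨ι⟩ := projIso Φ
  have sqP : IsPullback (pullback.fst a ((yon S).map h)).hom
      (pullback.snd a ((yon S).map h)).hom a.hom ((pyon S).map h) :=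
    (IsPullback.of_hasPullback a ((yon S).map h)).map (sheafToPresheaf (J S) (Type (u + 1)))
  have hL := isTwoCartOver_of_isPullback sqP
  obtain ⟨α⟩ := overMapIso h
  let β : BasedFunctor.comp (Stk.ofPshMap a.hom) (toOver U) ≅ BasedFunctor.comp e π := by
    rw [ha, ← hΦ]
    exact ι.symm
  obtain ⟨⟨hU1, hU2⟩, -⟩ := (X5139 (toOver U)).1 (isEquivOver_toOver U)
  let N := fpMap (F' := Stk.ofPshMap ((pyon S).map h)) (G' := Stk.ofPshMap a.hom)
    (F := AlgSt.overMap h) (G := π) (toOver V) e (toOver U) α β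
  have hN : FibCat.IsEquivOver N := isEquivOver_fpMap _ _ _ _ _ (isEquivOver_toOver V) he
  let L := FibCat.fpLift (Stk.ofPshMap (pullback.snd a ((yon S).map h)).hom)
    (Stk.ofPshMap (pullback.fst a ((yon S).map h)).hom) (sqE sqP.w)
  have hM : FibCat.IsEquivOver (BasedFunctor.comp L N) := isEquivOver_comp L N hL hN
  have H' := repWith_transfer P (FibCat.fpFst (AlgSt.overMap h) π)
    (projOf (pullback.snd a ((yon S).map h)).hom) (BasedFunctor.comp L N) hM
    (fun x' => ⟨𝟙 _, IsHomLift.id rfl⟩) H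
  obtain ⟨hs, hA, hP⟩ := transfer_to_psh P hc _ H'
  exact ⟨hA, hP⟩

end Groth.Agent.H3.QDiag
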