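import Mathlib
import Groth.Agent.Lib.Helper3.QDiag.Bridge
import Groth.Agent.Lib.Helper3.AlgSt.OpenCover
import Groth.Agent.S9873

/-!
# Representability by algebraic spaces descends along étale-local liftings (helper3)

* `isAlgSpace_of_etale_cover`: a sheaf `F` over a scheme `Z` whose base change to an étale
  covering `Z' ⟶ Z` is an algebraic space is an algebraic space.
* `repByAlgSp1_of_etale_local`: if every `y : (Sch/U) ⟶ 𝒴` lifts étale locally on `U` through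
  `g : 𝒵 ⟶ 𝒴`, the base change of `f` to `𝒵` is representable by algebraic spaces, and the fibre
  products `(Sch/U) ×_𝒴 𝒳` are stacks fibred in setoids, then `f` is representable by algebraic
  spaces.
-/

set_option autoImplicit false
universe v₂ u₂ v₃ u₃ v u
open CategoryTheory CategoryTheory.Functor CategoryTheory.Limits Opposite AlgebraicGeometry

namespace Groth.Agent.H3.QDiag

open Groth.Agent.H3.FibCatAux Groth.Agent.H3.GerbAux Groth.Agent.H3.FpCalc Groth.Agent.H3.TwoCart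
  Groth.Agent.H3.StackPsh Groth.Agent.H3.PshBridge Groth.Agent.H3.AlgStAux Groth.Agent.H3.RepBridge
  Groth.Agent.H3.SetoidPsh Groth.Agent.H3.BaseChangeSp Groth.Agent.H3.AlgStComp
  Groth.Agent.H3.AlgStProps Groth.Agent.H3.AlgStBridge2 Groth.Agent.H3.AlgStCharts
  Groth.Agent.H3.AlgStDescent Groth.Agent.H3.OpenCover
open AlgSp

variable {S : Scheme.{u}}

/-- étale descent of "is an algebraic space" for sheaves over a scheme -/
theorem isAlgSpace_of_etale_cover {F : Sp S} {Z Z' : Over S} (a : F ⟶ (yon S).obj Z) (c : Z' ⟶ Z)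
    (hc : Etale c.left) (hs : Surjective c.left)
    (h : IsAlgSpace (pullback a ((yon S).map c))) : IsAlgSpace F := by
  have sq := (IsPullback.of_hasPullback a ((yon S).map c)).flip
  exact Groth.Agent.S9873.result S ⟨pullback a ((yon S).map c), h⟩ F (pullback.fst _ _)
    (MorphismProperty.of_isPullback sq ((repWith_yon_map_iff @Etale c).2 hc))
    (MorphismProperty.of_isPullback sq ((repWith_yon_map_iff @Surjective c).2 hs))

lemma isoCancel_top : IsoCancel (S := S) (⊤ : MorphismProperty (Sp S)) :=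
  fun _ _ _ _ _ _ _ _ _ _ => trivial

variable {𝒳 𝒴 𝒵 : AlgSt.Cat S}

/-- the 2-fibre product only depends on the first functor up to 2-isomorphism -/
theorem repByAlgSp_fp_of_iso (f : 𝒳 ⥤ᵇ 𝒴) {y y' : 𝒵 ⥤ᵇ 𝒴} (ι : y ≅ y')
    (h : AlgSt.RepByAlgSp (FibCat.fp y f)) : AlgSt.RepByAlgSp (FibCat.fp y' f) := by
  let α : BasedFunctor.comp y' (BasedFunctor.id 𝒴) ≅ BasedFunctor.comp (BasedFunctor.id 𝒵) y :=
    ι.symm
  let N := fpMap (F' := y') (G' := f) (F := y) (G := f) (BasedFunctor.id 𝒵) (BasedFunctor.id 𝒳)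
    (BasedFunctor.id 𝒴) α (idSq f)
  have hN : FibCat.IsEquivOver N := by
    have : (BasedFunctor.id 𝒴).toFunctor.Full := Functor.Full.id
    have : (BasedFunctor.id 𝒴).toFunctor.Faithful := Functor.Faithful.id
    exact isEquivOver_fpMap _ _ _ _ _ isEquivOver_id isEquivOver_id
  exact (repByAlgSp_iff_of_isEquivOver N hN).2 h

/-- **étale-local descent of representability by algebraic spaces** -/
theorem repByAlgSp1_of_etale_local (f : 𝒳 ⥤ᵇ 𝒴) (g : 𝒵 ⥤ᵇ 𝒴)
    (hst : ∀ (U : Over S) (y : FibCat.overCat U ⥤ᵇ 𝒴),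
      Stk.IsStack (AlgSp.J S) (FibCat.fp y f) ∧ FibCat.IsFibSetoid (FibCat.fp y f).p)
    (hg : ∀ (U : Over S) (y : FibCat.overCat U ⥤ᵇ 𝒴), ∃ (V : Over S) (c : V ⟶ U)
      (z : FibCat.overCat V ⥤ᵇ 𝒵), Etale c.left ∧ Surjective c.left ∧
        Nonempty (BasedFunctor.comp z g ≅ BasedFunctor.comp (AlgSt.overMap c) y))
    (h' : AlgSt.RepByAlgSp1 (FibCat.fpFst g f)) : AlgSt.RepByAlgSp1 f := by
  intro U y
  obtain ⟨hs, hset⟩ := hst U y
  obtain ⟨F, E, hE⟩ := exists_sheaf_equiv hs hset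
  obtain ⟨e, ⟨α⟩, ⟨β⟩⟩ := hE
  have he : FibCat.IsEquivOver e := ⟨E, ⟨β⟩, ⟨α⟩⟩
  obtain ⟨V, c, z, hce, hcs, ⟨ι⟩⟩ := hg U y
  have r0 : AlgSt.RepByAlgSp (FibCat.fp z (FibCat.fpFst g f)) := h' V z
  have r1 : AlgSt.RepByAlgSp (FibCat.fp (BasedFunctor.comp z g) f) :=
    (repByAlgSp_iff_of_isEquivOver (pasteL z g f) (isEquivOver_pasteL z g f)).1 r0
  have r2 : AlgSt.RepByAlgSp (FibCat.fp (BasedFunctor.comp (AlgSt.overMap c) y) f) :=
    repByAlgSp_fp_of_iso f ι r1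
  have r3 : AlgSt.RepByAlgSp (FibCat.fp (AlgSt.overMap c) (FibCat.fpFst y f)) :=
    (repByAlgSp_iff_of_isEquivOver (pasteL (AlgSt.overMap c) y f)
      (isEquivOver_pasteL (AlgSt.overMap c) y f)).2 r2
  have H : ∃ (F₁ : Space S)
      (e₁ : AlgSt.ofSp F₁.obj ⥤ᵇ FibCat.fp (AlgSt.overMap c) (FibCat.fpFst y f)),
      FibCat.IsEquivOver e₁ ∧ (⊤ : MorphismProperty (Sp S))
        (AlgSt.spMapOfOver (BasedFunctor.comp e₁
          (FibCat.fpFst (AlgSt.overMap c) (FibCat.fpFst y f)))) := by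
    obtain ⟨F₁, e₁, he₁⟩ := r3
    exact ⟨F₁, e₁, he₁, trivial⟩
  obtain ⟨hA, -⟩ := bridge ⊤ isoCancel_top (FibCat.fpFst y f) F e he c H
  have hF : IsAlgSpace F := isAlgSpace_of_etale_cover _ c hce hcs hA
  exact ⟨⟨F, hF⟩, e, he⟩

end Groth.Agent.H3.QDiag
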