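import Mathlib
import Groth.Agent.Lib.Helper3.QDiag.RD
import Groth.Agent.Lib.Helper3.QDiag.Lift
import Groth.Agent.Lib.Helper3.QDiag.Pt
import Groth.Agent.Lib.Helper3.AlgSt.StackRep
import Groth.Agent.Lib.Helper3.AlgSt.Algebraic
import Groth.Agent.Lib.Helper3.AlgSt.AffineComp
import Groth.Agent.Lib.Helper3.AlgSt.Descent

/-!
# The diagonal of a prestack with an étale-locally surjective chart (helper3)

Let `𝒳` be a prestack in groupoids over `(Sch/S)` for the fppf topology and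
`w : (Sch/X) ⟶ 𝒳` a functor representable by algebraic spaces through which every point of
`𝒳` factors étale locally.  Then the diagonal of `𝒳` is representable by algebraic spaces, and
it has a property `P` (fppf local on the base) as soon as `X ×_𝒳 X ⟶ X ×_S X` has.
-/

set_option autoImplicit false
universe v₂ u₂ v₃ u₃ v u
open CategoryTheory CategoryTheory.Functor CategoryTheory.Limits Opposite AlgebraicGeometry

namespace Groth.Agent.H3.QDiag

open Groth.Agent.H3.FibCatAux Groth.Agent.H3.GerbAux Groth.Agent.H3.FpCalc Groth.Agent.H3.TwoCart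
  Groth.Agent.H3.StackPsh Groth.Agent.H3.PshBridge Groth.Agent.H3.AlgStAux Groth.Agent.H3.RepBridge
  Groth.Agent.H3.SetoidPsh Groth.Agent.H3.BaseChangeSp Groth.Agent.H3.AlgStComp
  Groth.Agent.H3.AlgStProps Groth.Agent.H3.AlgStBridge2 Groth.Agent.H3.AlgStCharts
  Groth.Agent.H3.AlgStDescent Groth.Agent.H3.Whisker Groth.Agent.H3.AlgStLES
  Groth.Agent.H3.AlgStProd Groth.Agent.H3.AlgStDiag Groth.Agent.H3.StackMore
open AlgSp

variable {S : Scheme.{u}} {𝒳 : AlgSt.Cat S} {X : Over S}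

lemma repByAlgSp_overCat (U : Over S) : AlgSt.RepByAlgSp (FibCat.overCat U) :=
  ⟨⟨(yon S).obj U, IsAlgSpace.yon_obj U⟩, toOver U, isEquivOver_toOver U⟩

lemma isStack_overCat (U : Over S) : Stk.IsStack (AlgSp.J S) (FibCat.overCat U) :=
  Groth.Agent.H3.AlgStStackRep.isStack_of_repByAlgSp (repByAlgSp_overCat U)

lemma isPrestack_selfOver : Stk.IsPrestack (AlgSp.J S) (FibCat.selfOver (Over S)) :=
  isPrestack_of_isStack _ Groth.Agent.H3.AlgStAlgebraic.isStack_selfOver

variable (w : FibCat.overCat X ⥤ᵇ 𝒳)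

/-- the base change of the diagonal to `X ×_S X` is `X ×_𝒳 X ⟶ X ×_S X` -/
theorem magicSq_rep1
    (h : AlgSt.RepByAlgSp1 (magicI w w (FibCat.toSelf 𝒳) (magicIso w w (FibCat.toSelf 𝒳)))) :
    AlgSt.RepByAlgSp1 (FibCat.fpFst (magicR w w (FibCat.toSelf 𝒳))
      (FibCat.diag (FibCat.toSelf 𝒳))) := by
  have h2 := magic_isTwoCartOver w w (FibCat.toSelf 𝒳) (magicIso w w _)
    (fun x => magicIso_app w w _ x)
  exact repByAlgSp1_of_square' _ (magicI w w _ (magicIso w w _))
    (FibCat.fpLift _ _ (magicE w w _ _ (fun x => magicIso_app w w _ x))) (BasedFunctor.id _)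
    h2 isEquivOver_id (Iso.refl _) h

theorem magicSq_with (P : MorphismProperty (Sp S))
    (h : AlgSt.RepByAlgSpWith P
      (magicI w w (FibCat.toSelf 𝒳) (magicIso w w (FibCat.toSelf 𝒳)))) :
    AlgSt.RepByAlgSpWith P (FibCat.fpFst (magicR w w (FibCat.toSelf 𝒳))
      (FibCat.diag (FibCat.toSelf 𝒳))) := by
  have h2 := magic_isTwoCartOver w w (FibCat.toSelf 𝒳) (magicIso w w _)
    (fun x => magicIso_app w w _ x)
  exact repByAlgSpWith_of_square' P _ (magicI w w _ (magicIso w w _))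
    (FibCat.fpLift _ _ (magicE w w _ _ (fun x => magicIso_app w w _ x))) (BasedFunctor.id _)
    h2 isEquivOver_id (Iso.refl _) h

/-- **the diagonal is representable by algebraic spaces** -/
theorem repByAlgSp1_diag (hpre : Stk.IsPrestack (AlgSp.J S) 𝒳) (hw : AlgSt.RepByAlgSp1 w)
    (hloc : LocFac w) : AlgSt.RepByAlgSp1 (FibCat.diag (FibCat.toSelf 𝒳)) := by
  apply repByAlgSp1_of_etale_local (FibCat.diag (FibCat.toSelf 𝒳)) (magicR w w (FibCat.toSelf 𝒳))
  · intro U y
    exact ⟨isStack_fp_diag (AlgSp.J S) isStack_overCat isPrestack_selfOver hpre U y,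
      isFibSetoid_fp_diag hpre.1 U y⟩
  · exact exists_lift_magicR w hloc
  · apply magicSq_rep1
    exact repByAlgSp1_of_repByAlgSp (hw X w)
      (repByAlgSp_fp_selfOver _ _ (repByAlgSp_overCat X) (repByAlgSp_overCat X)) _

/-- **the diagonal has `P`** as soon as `X ×_𝒳 X ⟶ X ×_S X` has -/
theorem repByAlgSpWith_diag (P : MorphismProperty (Sp S)) (hPb : BaseChangeSp P)
    (hP : IsLocalOnBase IsFppfCover P) (hpre : Stk.IsPrestack (AlgSp.J S) 𝒳)
    (hw : AlgSt.RepByAlgSp1 w) (hloc : LocFac w)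
    (hI : AlgSt.RepByAlgSpWith P
      (magicI w w (FibCat.toSelf 𝒳) (magicIso w w (FibCat.toSelf 𝒳)))) :
    AlgSt.RepByAlgSpWith P (FibCat.diag (FibCat.toSelf 𝒳)) := by
  apply repByAlgSpWith_descent P hPb hP (FibCat.diag (FibCat.toSelf 𝒳))
    (repByAlgSp1_diag w hpre hw hloc) (magicR w w (FibCat.toSelf 𝒳))
  · intro U y
    obtain ⟨V, c, z, hce, hcs, ⟨ι⟩⟩ := exists_lift_magicR w hloc U y
    refine ⟨Sieve.generate (Presieve.singleton c), ?_, ?_⟩
    · haveI := hce
      exact Groth.Agent.H5.AlgSp.mem_J_of_fppf c inferInstance inferInstance hcs _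
        ⟨V, 𝟙 V, c, Presieve.singleton.mk, Category.id_comp c⟩
    · rintro V' h ⟨T', k, c', ⟨⟩, rfl⟩
      obtain ⟨κ⟩ := overMapComp k c
      exact ⟨BasedFunctor.comp (AlgSt.overMap k) z,
        ⟨whiskerL (AlgSt.overMap k) ι ≪≫ whiskerR κ y⟩⟩
  · exact magicSq_with w P hI

end Groth.Agent.H3.QDiag
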