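import Mathlib
import Groth.Agent.Lib.Helper3.QDiag.Main
import Groth.Agent.Lib.Helper3.AlgSt.DiagProp
import Groth.Agent.Lib.Helper3.AlgSt.DiagEt
import Groth.Agent.Lib.Helper3.AlgSt.AffineComp
import Groth.Agent.Lib.Helper3.AlgSt.PropFacts
import Groth.Agent.Lib.Helper3.AlgSpCov.FpqcAffineBase

/-!
# Properties of the diagonal of a prestack with an étale-locally surjective chart (helper3)

If the chart `w : (Sch/X) ⟶ 𝒳` is representable with `P₀` and the diagonal of `X ⟶ S` has `P₀`,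
the diagonal of `𝒳` is representable with `P₀` (for `P₀` stable under base change and composition
and fppf local on the base).
-/

set_option autoImplicit false
universe v₂ u₂ v₃ u₃ v u
open CategoryTheory CategoryTheory.Functor CategoryTheory.Limits Opposite AlgebraicGeometry

namespace Groth.Agent.H3.QDiag

open Groth.Agent.H3.FibCatAux Groth.Agent.H3.GerbAux Groth.Agent.H3.FpCalc Groth.Agent.H3.TwoCart
  Groth.Agent.H3.StackPsh Groth.Agent.H3.PshBridge Groth.Agent.H3.AlgStAux Groth.Agent.H3.RepBridge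
  Groth.Agent.H3.SetoidPsh Groth.Agent.H3.BaseChangeSp Groth.Agent.H3.AlgStComp
  Groth.Agent.H3.AlgStProps Groth.Agent.H3.AlgStBridge2 Groth.Agent.H3.AlgStCharts
  Groth.Agent.H3.AlgStDescent Groth.Agent.H3.AlgStProd Groth.Agent.H3.AlgStDiag
  Groth.Agent.H3.StackMore Groth.Agent.H3.AlgStAlgebraic Groth.Agent.H3.AlgStDiagProp
  Groth.Agent.H3.DiagSquare Groth.Agent.H3.AlgStDiagEt Groth.Agent.H3.AlgStAffine
open AlgSp

variable {S : Scheme.{u}} {𝒳 : AlgSt.Cat S}

/-- the diagonal of the structure functor of `(Sch/X)` has `P₀` when the diagonal of `X ⟶ S`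
has -/
theorem diag_toSelf_overCat (P₀ : MorphismProperty Scheme.{u}) [P₀.IsStableUnderBaseChange]
    [P₀.IsMultiplicative] (X : Over S) (hX : P₀ (pullback.diagonal X.hom)) :
    AlgSt.RepByAlgSpWith (RepWith P₀) (FibCat.diag (FibCat.toSelf (FibCat.overCat X))) := by
  have hG := goodC_repWith (S := S) P₀
  obtain ⟨tX, htX⟩ : ∃ tX : (yon S).obj X ⟶ termSp, tX = termSpIsTerminal.from _ := ⟨_, rfl⟩
  obtain ⟨toS, htoS⟩ : ∃ toS : X ⟶ Over.mk (𝟙 S), toS.left = X.hom :=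
    ⟨Over.homMk X.hom (by simp), rfl⟩
  have h0 : tX = (yon S).map toS := termSpIsTerminal.hom_ext _ _
  have h1' : RepWith P₀ (pullback.diagonal ((yon S).map toS)) :=
    (repWith_diagonal_yon_map_iff P₀ toS).2 (by rw [htoS]; exact hX)
  have h1 : RepWith P₀ (pullback.diagonal tX) := by
    rw [h0]
    exact h1'
  have h2 : AlgSt.RepByAlgSpWith (RepWith P₀) (FibCat.diag (Stk.ofPshMap tX.hom)) :=
    (repByAlgSpWith_diag_ofPshMap_iff tX (RepWith P₀) hG.bc hG.charts (IsAlgSpace.yon_obj X)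
      (IsAlgSpace.yon_obj _)).2 h1
  let ε : BasedFunctor.comp (Stk.ofPshMap tX.hom)
        (FibCat.toSelf (Stk.ofPsh (termSp (S := S)).obj)) ≅
      BasedFunctor.comp (toOver X) (FibCat.toSelf (FibCat.overCat X)) :=
    eqToIso ((eq_toSelf _).trans (eq_toSelf _).symm)
  exact (repByAlgSpWith_diag_iff_of_square (FibCat.toSelf (FibCat.overCat X))
    (Stk.ofPshMap tX.hom) (toOver X) (FibCat.toSelf (Stk.ofPsh (termSp (S := S)).obj)) ε
    (RepWith P₀) (isEquivOver_toOver X) isEquivOver_toSelf_termSp).1 h2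

variable {X : Over S} (w : FibCat.overCat X ⥤ᵇ 𝒳)

/-- `X ×_𝒳 X ⟶ X ×_S X` has `P₀` when the chart and the diagonal of `X ⟶ S` have -/
theorem repByAlgSpWith_magicI (P₀ : MorphismProperty Scheme.{u}) [P₀.IsStableUnderBaseChange]
    [P₀.IsMultiplicative] (h𝒳 : FibCat.IsFibGrpd 𝒳.p)
    (hwP : AlgSt.RepByAlgSpWith (RepWith P₀) w) (hX : P₀ (pullback.diagonal X.hom)) :
    AlgSt.RepByAlgSpWith (RepWith P₀)
      (magicI w w (FibCat.toSelf 𝒳) (magicIso w w (FibCat.toSelf 𝒳))) := by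
  have hU := (isFibSetoid_overCat X).1
  have hΔ : AlgSt.RepByAlgSpWith (RepWith P₀)
      (FibCat.diag (BasedFunctor.comp w (FibCat.toSelf 𝒳))) := by
    rw [eq_toSelf (BasedFunctor.comp w (FibCat.toSelf 𝒳))]
    exact diag_toSelf_overCat P₀ X hX
  have ha : AlgSt.RepByAlgSpWith (RepWith P₀) (FibCat.fpFst w w) :=
    repByAlgSpWith_fpFst (RepWith P₀) w w hwP
  have hb : AlgSt.RepByAlgSpWith (RepWith P₀)
      (FibCat.diag (FibCat.fpFst (BasedFunctor.comp w (FibCat.toSelf 𝒳))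
        (BasedFunctor.comp w (FibCat.toSelf 𝒳)))) :=
    repByAlgSpWith_diag_fpFst (RepWith P₀) _ _ hΔ
  have e : BasedFunctor.comp (magicI w w (FibCat.toSelf 𝒳) (magicIso w w (FibCat.toSelf 𝒳)))
      (FibCat.fpFst (BasedFunctor.comp w (FibCat.toSelf 𝒳))
        (BasedFunctor.comp w (FibCat.toSelf 𝒳))) ≅ FibCat.fpFst w w :=
    eqToIso (by apply basedFunctor_ext; rfl)
  exact rep_of_triangle (goodC_repWith P₀) (X6401 w w hU hU h𝒳)
    (X6401 _ _ hU hU isFibGrpd_id) hU _ _ _ e ha hb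

/-- **the diagonal has `P₀`** -/
theorem repByAlgSpWith_diag_of_chart (P₀ : MorphismProperty Scheme.{u})
    [P₀.IsStableUnderBaseChange] [P₀.IsMultiplicative]
    (hloc₀ : IsLocalOnBase (IsFppfCover (S := S)) (RepWith P₀))
    (hpre : Stk.IsPrestack (AlgSp.J S) 𝒳) (hw : AlgSt.RepByAlgSp1 w) (hloc : LocFac w)
    (hwP : AlgSt.RepByAlgSpWith (RepWith P₀) w) (hX : P₀ (pullback.diagonal X.hom)) :
    AlgSt.RepByAlgSpWith (RepWith P₀) (FibCat.diag (FibCat.toSelf 𝒳)) :=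
  repByAlgSpWith_diag w (RepWith P₀) (goodC_repWith P₀).bc hloc₀ hpre hw hloc
    (repByAlgSpWith_magicI w P₀ hpre.1 hwP hX)

/-- **affine diagonal** -/
theorem isAffineMor_diag_of_chart (hpre : Stk.IsPrestack (AlgSp.J S) 𝒳)
    (hw : AlgSt.RepByAlgSp1 w) (hloc : LocFac w)
    (hwP : AlgSt.RepByAlgSpWith (RepWith @IsAffineHom) w)
    (hX : IsAffineHom (pullback.diagonal X.hom)) :
    AlgSt.RepByAlgSpWith IsAffineMor (FibCat.diag (FibCat.toSelf 𝒳)) :=
  (rep_isAffineMor_iff _).2 (repByAlgSpWith_diag_of_chart w @IsAffineHom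
    (isLocalOnBase_fppf_of_fpqc Groth.Agent.H3.AlgSpCov.isLocalOnBase_fpqc_repWith_isAffineHom)
    hpre hw hloc hwP hX)

end Groth.Agent.H3.QDiag
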