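import Mathlib
import Groth.Agent.Lib.Helper3.AlgSt.NoethDiag
import Groth.Agent.Lib.Helper3.AlgSt.LocEssSurj
import Groth.Agent.Lib.Helper3.Whisker
import Groth.Agent.Lib.Helper3.TwoCart
import Groth.Agent.Lib.Helper3.QDiag.Lift

/-!
# fppf-local lifting of points of `𝒳 ×_S 𝒳` through a chart (helper3)

If every `x : (Sch/U) ⟶ 𝒳` factors fppf locally on `U` through `w : (Sch/X) ⟶ 𝒳`, then every
`y : (Sch/U) ⟶ 𝒳 ×_S 𝒳` factors fppf locally through `(Sch/X) ×_S (Sch/X) ⟶ 𝒳 ×_S 𝒳`.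
-/

set_option autoImplicit false
universe v₂ u₂ v₃ u₃ v u
open CategoryTheory CategoryTheory.Functor CategoryTheory.Limits Opposite AlgebraicGeometry

namespace Groth.Agent.H3.QDiag

open Groth.Agent.H3.FibCatAux Groth.Agent.H3.GerbAux Groth.Agent.H3.FpCalc Groth.Agent.H3.TwoCart
  Groth.Agent.H3.Whisker Groth.Agent.H3.AlgStLES Groth.Agent.H3.NoethDiag
  Groth.Agent.H3.AlgStProd

variable {S : Scheme.{u}} {𝒳 : AlgSt.Cat S} {X : Over S}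

/-- every point of `𝒳` factors through the chart `w` fppf locally -/
def FLocFac (w : FibCat.overCat X ⥤ᵇ 𝒳) : Prop :=
  ∀ (U : Over S) (x : FibCat.overCat U ⥤ᵇ 𝒳), ∃ (V : Over S) (c : V ⟶ U) (ξ : V ⟶ X),
    Flat c.left ∧ LocallyOfFinitePresentation c.left ∧ Surjective c.left ∧
      Nonempty (BasedFunctor.comp (AlgSt.overMap ξ) w ≅ BasedFunctor.comp (AlgSt.overMap c) x)

theorem exists_lift_magicR_fppf (w : FibCat.overCat X ⥤ᵇ 𝒳) (hloc : FLocFac w) (U : Over S)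
    (y : FibCat.overCat U ⥤ᵇ FibCat.fp (FibCat.toSelf 𝒳) (FibCat.toSelf 𝒳)) :
    ∃ (V : Over S) (c : V ⟶ U)
      (z : FibCat.overCat V ⥤ᵇ FibCat.fp (BasedFunctor.comp w (FibCat.toSelf 𝒳))
        (BasedFunctor.comp w (FibCat.toSelf 𝒳))),
      Flat c.left ∧ LocallyOfFinitePresentation c.left ∧ Surjective c.left ∧
        Nonempty (BasedFunctor.comp z (magicR w w (FibCat.toSelf 𝒳)) ≅
          BasedFunctor.comp (AlgSt.overMap c) y) := by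
  obtain ⟨x₁, hx₁⟩ : ∃ x₁ : FibCat.overCat U ⥤ᵇ 𝒳,
    x₁ = BasedFunctor.comp y (FibCat.fpFst _ _) := ⟨_, rfl⟩
  obtain ⟨x₂, hx₂⟩ : ∃ x₂ : FibCat.overCat U ⥤ᵇ 𝒳,
    x₂ = BasedFunctor.comp y (FibCat.fpSnd _ _) := ⟨_, rfl⟩
  obtain ⟨V₁, c₁, ξ₁, h1e, h1f, h1s, ⟨ι₁⟩⟩ := hloc U x₁
  obtain ⟨V₂, c₂, ξ₂, h2e, h2f, h2s, ⟨ι₂⟩⟩ := hloc U x₂
  obtain ⟨V, p₁, p₂, sq⟩ : ∃ (V : Over S) (p₁ : V ⟶ V₁) (p₂ : V ⟶ V₂), IsPullback p₁ p₂ c₁ c₂ :=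
    ⟨_, _, _, IsPullback.of_hasPullback c₁ c₂⟩
  have sqL : IsPullback p₁.left p₂.left c₁.left c₂.left := sq.map (Over.forget S)
  have hp₁e : Flat p₁.left := MorphismProperty.of_isPullback (P := @Flat) sqL.flip h2e
  have hp₁f : LocallyOfFinitePresentation p₁.left :=
    MorphismProperty.of_isPullback (P := @LocallyOfFinitePresentation) sqL.flip h2f
  have hp₁s : Surjective p₁.left := MorphismProperty.of_isPullback (P := @Surjective) sqL.flip h2s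
  obtain ⟨c, hc₁⟩ : ∃ c : V ⟶ U, p₁ ≫ c₁ = c := ⟨_, rfl⟩
  have hc₂ : p₂ ≫ c₂ = c := by rw [← hc₁, sq.w]
  have hce : Flat c.left := by
    rw [← hc₁, Over.comp_left]
    haveI := hp₁e
    haveI := h1e
    infer_instance
  have hcf : LocallyOfFinitePresentation c.left := by
    rw [← hc₁, Over.comp_left]
    haveI := hp₁f
    haveI := h1f
    infer_instance
  have hcs : Surjective c.left := by
    rw [← hc₁, Over.comp_left]
    haveI := hp₁s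
    haveI := h1s
    infer_instance
  obtain ⟨η₁, hη₁⟩ : ∃ η₁ : V ⟶ X, p₁ ≫ ξ₁ = η₁ := ⟨_, rfl⟩
  obtain ⟨η₂, hη₂⟩ : ∃ η₂ : V ⟶ X, p₂ ≫ ξ₂ = η₂ := ⟨_, rfl⟩
  obtain ⟨k₁⟩ : Nonempty (BasedFunctor.comp (AlgSt.overMap p₁) (AlgSt.overMap ξ₁) ≅
      AlgSt.overMap η₁) := by rw [← hη₁]; exact overMapComp p₁ ξ₁
  obtain ⟨k₂⟩ : Nonempty (BasedFunctor.comp (AlgSt.overMap p₂) (AlgSt.overMap ξ₂) ≅
      AlgSt.overMap η₂) := by rw [← hη₂]; exact overMapComp p₂ ξ₂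
  obtain ⟨k₁'⟩ : Nonempty (BasedFunctor.comp (AlgSt.overMap p₁) (AlgSt.overMap c₁) ≅
      AlgSt.overMap c) := by rw [← hc₁]; exact overMapComp p₁ c₁
  obtain ⟨k₂'⟩ : Nonempty (BasedFunctor.comp (AlgSt.overMap p₂) (AlgSt.overMap c₂) ≅
      AlgSt.overMap c) := by rw [← hc₂]; exact overMapComp p₂ c₂
  have j₁ : BasedFunctor.comp (AlgSt.overMap η₁) w ≅ BasedFunctor.comp (AlgSt.overMap c) x₁ :=
    (whiskerR k₁ w).symm ≪≫ whiskerL (AlgSt.overMap p₁) ι₁ ≪≫ whiskerR k₁' x₁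
  have j₂ : BasedFunctor.comp (AlgSt.overMap η₂) w ≅ BasedFunctor.comp (AlgSt.overMap c) x₂ :=
    (whiskerR k₂ w).symm ≪≫ whiskerL (AlgSt.overMap p₂) ι₂ ≪≫ whiskerR k₂' x₂
  obtain ⟨e₀⟩ : Nonempty (BasedFunctor.comp (AlgSt.overMap η₁)
      (BasedFunctor.comp w (FibCat.toSelf 𝒳)) ≅
      BasedFunctor.comp (AlgSt.overMap η₂) (BasedFunctor.comp w (FibCat.toSelf 𝒳))) :=
    ⟨eqToIso ((eq_toSelf _).trans (eq_toSelf _).symm)⟩
  obtain ⟨z, hz⟩ : ∃ z : FibCat.overCat V ⥤ᵇ FibCat.fp (BasedFunctor.comp w (FibCat.toSelf 𝒳))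
      (BasedFunctor.comp w (FibCat.toSelf 𝒳)),
      z = FibCat.fpLift (AlgSt.overMap η₁) (AlgSt.overMap η₂) e₀ := ⟨_, rfl⟩
  refine ⟨V, c, z, hce, hcf, hcs, ⟨?_⟩⟩
  have hA₁ : BasedFunctor.comp (BasedFunctor.comp z (magicR w w (FibCat.toSelf 𝒳)))
      (FibCat.fpFst (FibCat.toSelf 𝒳) (FibCat.toSelf 𝒳)) =
      BasedFunctor.comp (AlgSt.overMap η₁) w := by
    rw [hz]; apply basedFunctor_ext; rfl
  have hA₂ : BasedFunctor.comp (BasedFunctor.comp z (magicR w w (FibCat.toSelf 𝒳)))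
      (FibCat.fpSnd (FibCat.toSelf 𝒳) (FibCat.toSelf 𝒳)) =
      BasedFunctor.comp (AlgSt.overMap η₂) w := by
    rw [hz]; apply basedFunctor_ext; rfl
  have hB₁ : BasedFunctor.comp (BasedFunctor.comp (AlgSt.overMap c) y)
      (FibCat.fpFst (FibCat.toSelf 𝒳) (FibCat.toSelf 𝒳)) =
      BasedFunctor.comp (AlgSt.overMap c) x₁ := by
    rw [hx₁]; apply basedFunctor_ext; rfl
  have hB₂ : BasedFunctor.comp (BasedFunctor.comp (AlgSt.overMap c) y)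
      (FibCat.fpSnd (FibCat.toSelf 𝒳) (FibCat.toSelf 𝒳)) =
      BasedFunctor.comp (AlgSt.overMap c) x₂ := by
    rw [hx₂]; apply basedFunctor_ext; rfl
  exact isoOfComponents (FibCat.toSelf 𝒳) (FibCat.toSelf 𝒳) _ _
    (eqToIso hA₁ ≪≫ j₁ ≪≫ eqToIso hB₁.symm) (eqToIso hA₂ ≪≫ j₂ ≪≫ eqToIso hB₂.symm)

end Groth.Agent.H3.QDiag
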