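import Mathlib
import Groth.Agent.Lib.Helper3.AlgSpCov.FpqcQuasiAffineBase
import Groth.Agent.Lib.Helper3.DescSh.FpqcShQAff
import Groth.Agent.Lib.Helper3.DescSh.FpqcSheaf
import Groth.Agent.Lib.Helper3.AlgSt.SetoidPsh
import Groth.Agent.Lib.Helper3.StackPsh
import Groth.Agent.Lib.Helper3.GerbAux

/-!
# Sheaves satisfying fpqc descent from stacks in setoids; quasi-affine maps of such (helper3)

* `exists_fpqcSheaf_equiv`: a stack for the fpqc topology fibred in setoids is the category of an
  fppf sheaf which satisfies fpqc descent.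
* `isQuasiAffineMor_of_fpqcLocal`: version of `fpqcLocal_isQuasiAffineMor` for sheaves satisfying
  fpqc descent instead of algebraic spaces.
-/

set_option autoImplicit false
set_option linter.overlappingInstances false
set_option linter.unusedSectionVars false

universe u

open CategoryTheory CategoryTheory.Limits AlgebraicGeometry Opposite

namespace Groth.Agent.H3.QDiag

open _root_.AlgSp Groth.Agent.H5.AlgSp Groth.Agent.H3.FpqcDesc Groth.Agent.H3.QASigma
  Groth.Agent.H3.AlgSpCov Groth.Agent.H3.DescSh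

variable {S : Scheme.{u}}

/-- the fpqc topology on schemes over `S` -/
abbrev Jq (S : Scheme.{u}) : GrothendieckTopology (Over S) := QuotSh.J Scheme.fpqcPrecoverage S

lemma J_le_Jq : AlgSp.J S ≤ Jq S := by
  intro U R hR
  rw [GrothendieckTopology.mem_over_iff] at hR ⊢
  exact Precoverage.toGrothendieck_mono Scheme.fppfPrecoverage_le_fpqcPrecoverage _ hR

lemma generate_singleton_mem_Jq {T T' : Over S} (c : T' ⟶ T) [Flat c.left] [Surjective c.left]
    [QuasiCompact c.left] : Sieve.generate (Presieve.singleton c) ∈ Jq S T := by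
  rw [GrothendieckTopology.mem_over_iff]
  refine GrothendieckTopology.superset_covering _ ?_
    (Precoverage.generate_mem_toGrothendieck c.left.singleton_mem_fpqcPrecoverage)
  rintro Z f ⟨Y, h, g, ⟨⟩, rfl⟩
  rw [Sieve.overEquiv_iff]
  refine ⟨T', Over.homMk h (by simp), c, Presieve.singleton.mk, ?_⟩
  apply Over.OverMorphism.ext
  simp

open Groth.Agent.H3.SetoidPsh Groth.Agent.H3.StackPsh Groth.Agent.H3.GerbAux in
/-- a stack for the fpqc topology fibred in setoids is equivalent to the category of an fppf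
sheaf satisfying fpqc descent -/
theorem exists_fpqcSheaf_equiv {𝒲 : AlgSt.Cat S} (hs : Stk.IsStack (Jq S) 𝒲)
    (hset : FibCat.IsFibSetoid 𝒲.p) :
    ∃ (F : Sp S) (E : 𝒲 ⥤ᵇ AlgSt.ofSp F), FibCat.IsEquivOver E ∧ IsFpqcSheaf F := by
  obtain ⟨P₀, E, hE⟩ := exists_equivOver_ofPsh hset
  have h1 : Stk.IsStack (Jq S) (Stk.ofPsh P₀) := isStack_of_isEquivOver (Jq S) E hE hs
  have h2 : Presieve.IsSheaf (Jq S) P₀ := (isStack_ofPsh_iff P₀ (Jq S)).mp h1
  have h2' : Presieve.IsSheaf (AlgSp.J S) P₀ := Presieve.isSheaf_of_le P₀ J_le_Jq h2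
  have h3 : Presheaf.IsSheaf (AlgSp.J S) P₀ := (isSheaf_iff_isSheaf_of_type _ _).mpr h2'
  refine ⟨⟨P₀, h3⟩, E, hE, ?_⟩
  intro T T' c hc1 hc2 hc3
  haveI := hc1
  haveI := hc2
  haveI := hc3
  rw [Presieve.isSheafFor_iff_generate]
  exact h2 _ (generate_singleton_mem_Jq c)

theorem isQuasiAffineMor_of_fpqcLocal {X Y : Sp S} (f : X ⟶ Y) (hX : IsFpqcSheaf X)
    (hY : IsFpqcSheaf Y)
    (hloc : ∀ (Z : Over S), IsAffine Z.left → ∀ (hZ : (yon S).obj Z ⟶ Y),
      ∃ (m : ℕ) (W : Fin m → Over S) (c : ∀ j, W j ⟶ Z),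
        (∀ j, IsAffine (W j).left) ∧ (∀ j, Flat (c j).left) ∧
        (∀ z : ↥Z.left, ∃ j, z ∈ Set.range (c j).left) ∧
        ∀ j, IsQuasiAffineMor (pullback.snd f ((yon S).map (c j) ≫ hZ))) :
    IsQuasiAffineMor f := by
  intro Z hZ g
  have sqP := IsPullback.of_hasPullback f g
  have hP₀ : IsFpqcSheaf (pullback f g) :=
    isFpqcSheaf_of_isPullback sqP hX hY (isFpqcSheaf_yon Z)
  obtain ⟨m, W, c, hWaff, hflat, hsurj, hQ⟩ := hloc Z hZ g
  -- for each `j`, the base change to `W j` is a quasi-affine scheme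
  have hex : ∀ j, ∃ (V : Over S) (i : V ⟶ W j) (l : (yon S).obj V ⟶ pullback f g),
      IsPullback l ((yon S).map i) (pullback.snd f g) ((yon S).map (c j)) ∧
        V.left.IsQuasiAffine := by
    intro j
    obtain ⟨V, i, fstj, sqj, hqa⟩ := hQ j (hWaff j) (𝟙 _)
    have bigj : IsPullback (fstj ≫ pullback.fst f ((yon S).map (c j) ≫ g)) ((yon S).map i) f
        ((yon S).map (c j) ≫ g) := by
      have := sqj.paste_horiz (IsPullback.of_hasPullback f ((yon S).map (c j) ≫ g))
      rwa [Category.id_comp] at this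
    have hw : (fstj ≫ pullback.fst f ((yon S).map (c j) ≫ g)) ≫ f =
        ((yon S).map i ≫ (yon S).map (c j)) ≫ g := by
      rw [Category.assoc _ _ g]; exact bigj.w
    refine ⟨V, i, sqP.lift _ _ hw, ?_, hqa⟩
    apply IsPullback.of_right (h₁₂ := pullback.fst f g) (h₂₂ := g) _ (sqP.lift_snd _ _ _) sqP
    rw [sqP.lift_fst]
    exact bigj
  choose V i l sql hVqa using hex
  -- Step A
  have hA : ∀ j, RepWith @QuasiCompact (pullback.snd (pullback.snd f g) ((yon S).map (c j))) := by
    intro j
    have hqc : QuasiCompact (i j).left := by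
      have : IsAffine (W j).left := hWaff j
      have : CompactSpace ↥(V j).left := (hVqa j).toCompactSpace
      exact (HasAffineProperty.iff_of_isAffine (P := @QuasiCompact)).2 this
    rw [← (sql j).isoPullback_inv_snd]
    exact MorphismProperty.RespectsIso.precomp _ _ _
      ((repWith_yon_map_iff @QuasiCompact (i j)).2 hqc)
  -- Step B
  let W' : ULift.{u} (Fin m) → Over S := fun j => W j.down
  let c' : ∀ j, W' j ⟶ Z := fun j => c j.down
  have hσ := repWith_sigma_of_family @QuasiCompact W' c' (pullback.snd f g) (fun j => hA j.down)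
  have : ∀ j : ULift.{u} (Fin m), IsAffine (W' j).left := fun j => hWaff j.down
  have hprops := sigmaDesc_props (fun j => (W' j).left) (fun j => (c' j).left)
    (fun j => hflat j.down) (fun z => by
      obtain ⟨j, hj⟩ := hsurj z
      exact ⟨⟨j⟩, hj⟩)
  have hσaff : IsAffine (sigmaOver W').left := hprops.1
  have hσsurj : Surjective (sigmaOverDesc W' c').left := hprops.2.1
  have hσflat : Flat (sigmaOverDesc W' c').left := hprops.2.2
  set cσ := sigmaOverDesc W' c' with hcσ
  have sq1 := hσ.rep.isPullback (𝟙 ((yon S).obj (sigmaOver W')))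
  set v := hσ.rep.snd (𝟙 ((yon S).obj (sigmaOver W'))) with hv
  have sqV : IsPullback (hσ.rep.fst (𝟙 ((yon S).obj (sigmaOver W'))) ≫
      pullback.fst (pullback.snd f g) ((yon S).map cσ)) ((yon S).map v) (pullback.snd f g)
      ((yon S).map cσ) := by
    have h := sq1.paste_horiz (IsPullback.of_hasPullback (pullback.snd f g) ((yon S).map cσ))
    rwa [Category.id_comp] at h
  -- Step C: the total space is quasi-affine
  have hVσ : (hσ.rep.pullback (𝟙 ((yon S).obj (sigmaOver W')))).left.IsQuasiAffine := by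
    have hlift : ∀ j : ULift.{u} (Fin m), l j.down ≫ pullback.snd f g =
        ((yon S).map (i j.down) ≫ (yon S).map (sigmaOverι W' j)) ≫ (yon S).map cσ := by
      intro j
      rw [Category.assoc, ← Functor.map_comp (yon S) (sigmaOverι W' j), sigmaOverι_desc]
      exact (sql j.down).w
    have hex2 : ∀ j : ULift.{u} (Fin m),
        ∃ a : V j.down ⟶ hσ.rep.pullback (𝟙 ((yon S).obj (sigmaOver W'))),
          IsPullback a (i j.down) v (sigmaOverι W' j) := by
      intro j
      obtain ⟨a, ha⟩ := (yon S).map_surjective (sqV.lift (l j.down) _ (hlift j))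
      refine ⟨a, ?_⟩
      apply IsPullback.of_map_of_faithful (yon S)
      rw [ha]
      apply IsPullback.of_right (h₂₂ := (yon S).map cσ) _ (sqV.lift_snd _ _ _) sqV
      rw [sqV.lift_fst, ← Functor.map_comp, sigmaOverι_desc]
      exact sql j.down
    choose a ha using hex2
    have : ∀ j : ULift.{u} (Fin m), (V j.down).left.IsQuasiAffine := fun j => hVqa j.down
    exact isQuasiAffine_of_sigma (fun j => (W' j).left) v.left (fun j => (V j.down).left)
      (fun j => (a j).left) (fun j => (i j.down).left)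
      (fun j => (ha j).map (Over.forget S))
  -- Step D
  have hZ' : IsAffine Z.left := hZ
  obtain ⟨W₀, w, e, he, hqa⟩ := exists_descent_of_isQuasiAffine_fpqc' cσ v (pullback.snd f g) _
    hP₀ sqV
  refine ⟨W₀, w, e.hom ≫ pullback.fst f g, ?_, hqa⟩
  refine IsPullback.of_iso sqP e.symm (Iso.refl _) (Iso.refl _) (Iso.refl _) (by simp) ?_
    (by simp) (by simp)
  rw [Iso.refl_hom, Category.comp_id, Iso.symm_hom, ← he, Iso.inv_hom_id_assoc]

/-- **Quasi-affine morphisms of algebraic spaces are fpqc local on the base.** -/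
theorem isLocalOnBase_fpqc_isQuasiAffineMor :
    IsLocalOnBase (IsFpqcCover (S := S)) IsQuasiAffineMor :=
  isLocalOnBase_fpqc_of bcStable_isQuasiAffineMor fpqcLocal_isQuasiAffineMor

end Groth.Agent.H3.QDiag
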