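import Mathlib
import Groth.Agent.Lib.Helper3.QDiag.RD
import Groth.Agent.Lib.Helper3.QDiag.FpqcSh
import Groth.Agent.Lib.Helper3.DescSh.FpqcRed
import Groth.Agent.Lib.Helper5.Descent.QuasiAffineMorDescent
import Groth.Agent.Lib.Helper5.AlgSp.RepOver
import Groth.Agent.Lib.Helper3.AlgSt.PropFacts

/-!
# Representability by algebraic spaces descends along fppf-local liftings, quasi-affine case

If every `y : (Sch/U) ⟶ 𝒴` lifts fppf locally on `U` through `g : 𝒵 ⟶ 𝒴`, the base change of `f`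
to `𝒵` is representable by algebraic spaces and quasi-affine, and the fibre products
`(Sch/U) ×_𝒴 𝒳` are stacks for the fpqc topology fibred in setoids, then `f` is representable by
algebraic spaces (by effective fpqc descent for quasi-affine schemes).
-/

set_option autoImplicit false
universe v₂ u₂ v₃ u₃ v u
open CategoryTheory CategoryTheory.Functor CategoryTheory.Limits Opposite AlgebraicGeometry

namespace Groth.Agent.H3.QDiag

open Groth.Agent.H3.FibCatAux Groth.Agent.H3.GerbAux Groth.Agent.H3.FpCalc Groth.Agent.H3.TwoCart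
  Groth.Agent.H3.StackPsh Groth.Agent.H3.PshBridge Groth.Agent.H3.AlgStAux Groth.Agent.H3.RepBridge
  Groth.Agent.H3.SetoidPsh Groth.Agent.H3.BaseChangeSp Groth.Agent.H3.AlgStComp
  Groth.Agent.H3.AlgStProps Groth.Agent.H3.AlgStBridge2 Groth.Agent.H3.AlgStCharts
  Groth.Agent.H3.AlgStDescent Groth.Agent.H3.OpenCover Groth.Agent.H3.AlgSpCov
  Groth.Agent.H3.DescSh
open AlgSp

variable {S : Scheme.{u}} {𝒳 𝒴 𝒵 : AlgSt.Cat S}

lemma baseChangeSp_isQuasiAffineMor : BaseChangeSp (IsQuasiAffineMor (S := S)) :=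
  baseChangeSp_of_bcStable bcStable_isQuasiAffineMor

lemma qa_snd_congr {X Y Z : Sp S} (a : X ⟶ Y) {g g' : Z ⟶ Y} (h : g = g')
    [HasPullback a g] [HasPullback a g'] (H : IsQuasiAffineMor (pullback.snd a g')) :
    IsQuasiAffineMor (pullback.snd a g) := by
  subst h
  exact H

/-- the pointwise base change of `fpFst y f` along a lifting -/
theorem exists_chart_of_lift (P : MorphismProperty (Sp S)) (f : 𝒳 ⥤ᵇ 𝒴) (g : 𝒵 ⥤ᵇ 𝒴)
    (h' : AlgSt.RepByAlgSpWith P (FibCat.fpFst g f)) {U V : Over S}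
    (y : FibCat.overCat U ⥤ᵇ 𝒴) (c : V ⟶ U) (z : FibCat.overCat V ⥤ᵇ 𝒵)
    (ι : BasedFunctor.comp z g ≅ BasedFunctor.comp (AlgSt.overMap c) y) :
    ∃ (F₁ : Space S)
      (e₁ : AlgSt.ofSp F₁.obj ⥤ᵇ FibCat.fp (AlgSt.overMap c) (FibCat.fpFst y f)),
      FibCat.IsEquivOver e₁ ∧ P (AlgSt.spMapOfOver (BasedFunctor.comp e₁
        (FibCat.fpFst (AlgSt.overMap c) (FibCat.fpFst y f)))) := by
  have h0 := h' V z
  -- step 1
  have h1 : ∃ (F : Space S) (e : AlgSt.ofSp F.obj ⥤ᵇ FibCat.fp (BasedFunctor.comp z g) f),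
      FibCat.IsEquivOver e ∧ P (AlgSt.spMapOfOver (BasedFunctor.comp e
        (FibCat.fpFst (BasedFunctor.comp z g) f))) :=
    repWith_transfer' P (FibCat.fpFst z (FibCat.fpFst g f))
      (FibCat.fpFst (BasedFunctor.comp z g) f) (pasteL z g f) (isEquivOver_pasteL z g f)
      (fun x => ⟨𝟙 _, IsHomLift.id ((FibCat.fpFst z (FibCat.fpFst g f)).w_obj x)⟩) h0
  -- step 2
  let α : BasedFunctor.comp (BasedFunctor.comp z g) (BasedFunctor.id 𝒴) ≅
      BasedFunctor.comp (BasedFunctor.id (FibCat.overCat V))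
        (BasedFunctor.comp (AlgSt.overMap c) y) := ι
  let N := fpMap (F' := BasedFunctor.comp z g) (G' := f)
    (F := BasedFunctor.comp (AlgSt.overMap c) y) (G := f) (BasedFunctor.id (FibCat.overCat V))
    (BasedFunctor.id 𝒳) (BasedFunctor.id 𝒴) α (idSq f)
  have hN : FibCat.IsEquivOver N := by
    have : (BasedFunctor.id 𝒴).toFunctor.Full := Functor.Full.id
    have : (BasedFunctor.id 𝒴).toFunctor.Faithful := Functor.Faithful.id
    exact isEquivOver_fpMap _ _ _ _ _ isEquivOver_id isEquivOver_id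
  have h2 : ∃ (F : Space S)
      (e : AlgSt.ofSp F.obj ⥤ᵇ FibCat.fp (BasedFunctor.comp (AlgSt.overMap c) y) f),
      FibCat.IsEquivOver e ∧ P (AlgSt.spMapOfOver (BasedFunctor.comp e
        (FibCat.fpFst (BasedFunctor.comp (AlgSt.overMap c) y) f))) :=
    repWith_transfer' P (FibCat.fpFst (BasedFunctor.comp z g) f)
      (FibCat.fpFst (BasedFunctor.comp (AlgSt.overMap c) y) f) N hN
      (fun x => ⟨𝟙 _, IsHomLift.id ((FibCat.fpFst (BasedFunctor.comp z g) f).w_obj x)⟩) h1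
  -- step 3
  exact repWith_transfer P (FibCat.fpFst (BasedFunctor.comp (AlgSt.overMap c) y) f)
    (FibCat.fpFst (AlgSt.overMap c) (FibCat.fpFst y f)) (pasteL (AlgSt.overMap c) y f)
    (isEquivOver_pasteL (AlgSt.overMap c) y f)
    (fun x => ⟨𝟙 _, IsHomLift.id
      ((FibCat.fpFst (AlgSt.overMap c) (FibCat.fpFst y f)).w_obj x)⟩) h2

/-- **fppf-local descent of representability by algebraic spaces**, quasi-affine case -/
theorem repByAlgSp1_of_fppf_local (f : 𝒳 ⥤ᵇ 𝒴) (g : 𝒵 ⥤ᵇ 𝒴)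
    (hst : ∀ (U : Over S) (y : FibCat.overCat U ⥤ᵇ 𝒴),
      Stk.IsStack (Jq S) (FibCat.fp y f) ∧ FibCat.IsFibSetoid (FibCat.fp y f).p)
    (hg : ∀ (U : Over S) (y : FibCat.overCat U ⥤ᵇ 𝒴), ∃ (V : Over S) (c : V ⟶ U)
      (z : FibCat.overCat V ⥤ᵇ 𝒵), Flat c.left ∧ LocallyOfFinitePresentation c.left ∧
        Surjective c.left ∧
        Nonempty (BasedFunctor.comp z g ≅ BasedFunctor.comp (AlgSt.overMap c) y))
    (h' : AlgSt.RepByAlgSpWith IsQuasiAffineMor (FibCat.fpFst g f)) : AlgSt.RepByAlgSp1 f := by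
  intro U y
  obtain ⟨hs, hset⟩ := hst U y
  obtain ⟨F, E, hE, hFq⟩ := exists_fpqcSheaf_equiv hs hset
  obtain ⟨e, ⟨α⟩, ⟨β⟩⟩ := hE
  have he : FibCat.IsEquivOver e := ⟨E, ⟨β⟩, ⟨α⟩⟩
  obtain ⟨V, c, z, hc1, hc2, hc3, ⟨ι⟩⟩ := hg U y
  have H := exists_chart_of_lift IsQuasiAffineMor f g h' y c z ι
  obtain ⟨a, ha⟩ : ∃ a : F ⟶ (yon S).obj U,
    a = AlgSt.spMapOfOver (BasedFunctor.comp e (FibCat.fpFst y f)) := ⟨_, rfl⟩
  obtain ⟨hA, hQ⟩ := bridge IsQuasiAffineMor
    (isoCancel_of_baseChangeSp baseChangeSp_isQuasiAffineMor) (FibCat.fpFst y f) F e he c H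
  rw [← ha] at hA hQ
  have hqa : IsQuasiAffineMor a := by
    apply isQuasiAffineMor_of_fpqcLocal a hFq (isFpqcSheaf_yon U)
    intro Z hZaff hZ
    haveI : IsAffine Z.left := hZaff
    obtain ⟨t, ht⟩ := (yon S).map_surjective hZ
    haveI := hc1
    haveI := hc2
    haveI := hc3
    have hu : Presieve.ofArrows (fun _ : PUnit.{u + 1} => V.left) (fun _ => c.left) ∈
        Scheme.fpqcPrecoverage U.left := by
      rw [Presieve.ofArrows_pUnit]
      exact Scheme.fppfPrecoverage_le_fpqcPrecoverage _ c.left.singleton_mem_fppfPrecoverage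
    obtain ⟨m, -, W, cW, rW, hWaff, hflat, hcomp, hsurj⟩ :=
      exists_affine_refinement_of_fpqc (fun _ : PUnit.{u + 1} => c.left) hu t.left
    have hr : ∀ k, rW k ≫ V.hom = cW k ≫ Z.hom := fun k => by
      rw [← Over.w c, ← Category.assoc, hcomp k, Category.assoc, Over.w t]
    obtain ⟨W', hW'⟩ : ∃ W' : Fin m → Over S, W' = fun k => Over.mk (cW k ≫ Z.hom) := ⟨_, rfl⟩
    subst hW'
    obtain ⟨c', hc'⟩ : ∃ c' : ∀ k, Over.mk (cW k ≫ Z.hom) ⟶ Z, ∀ k, (c' k).left = cW k :=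
      ⟨fun k => Over.homMk (cW k) rfl, fun k => rfl⟩
    obtain ⟨r', hr'⟩ : ∃ r' : ∀ k, Over.mk (cW k ≫ Z.hom) ⟶ V, ∀ k, (r' k).left = rW k :=
      ⟨fun k => Over.homMk (rW k) (hr k), fun k => rfl⟩
    have hrc : ∀ k, r' k ≫ c = c' k ≫ t := fun k => by
      apply Over.OverMorphism.ext
      rw [Over.comp_left, Over.comp_left, hr', hc']
      exact hcomp k
    refine ⟨m, fun k => Over.mk (cW k ≫ Z.hom), c', fun k => hWaff k, fun k => ?_, fun z' => ?_,
      fun k => ?_⟩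
    · rw [hc']; exact hflat k
    · obtain ⟨k, hk⟩ := hsurj z'
      exact ⟨k, by rw [hc']; exact hk⟩
    · have heq : (yon S).map (c' k) ≫ hZ = (yon S).map (r' k) ≫ (yon S).map c := by
        rw [← ht, ← Functor.map_comp, ← Functor.map_comp, hrc]
      refine qa_snd_congr a heq ?_
      have sqP := IsPullback.of_hasPullback a ((yon S).map c)
      have sqB := IsPullback.of_hasPullback a ((yon S).map (r' k) ≫ (yon S).map c)
      have hw : pullback.fst a ((yon S).map (r' k) ≫ (yon S).map c) ≫ a =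
          (pullback.snd a ((yon S).map (r' k) ≫ (yon S).map c) ≫ (yon S).map (r' k)) ≫
            (yon S).map c := by
        rw [Category.assoc]; exact sqB.w
      have sqL : IsPullback (sqP.lift _ _ hw)
          (pullback.snd a ((yon S).map (r' k) ≫ (yon S).map c))
          (pullback.snd a ((yon S).map c)) ((yon S).map (r' k)) := by
        apply IsPullback.of_right (h₁₂ := pullback.fst a ((yon S).map c))
          (h₂₂ := (yon S).map c) _ (sqP.lift_snd _ _ _) sqP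
        rw [sqP.lift_fst]
        exact sqB
      exact bcStable_isQuasiAffineMor _ _ _ _ hA (IsAlgSpace.yon_obj V) (IsAlgSpace.yon_obj _)
        sqL hQ
  have hrep : Representable a := Groth.Agent.H5.Descent.representable_of_isQuasiAffineMor hqa
  have hF : IsAlgSpace F :=
    Groth.Agent.H5.AlgSp.isAlgSpace_of_representable (IsAlgSpace.yon_obj U) a hrep
  exact ⟨⟨F, hF⟩, e, he⟩

end Groth.Agent.H3.QDiag
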