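import Mathlib
import Groth.Agent.Lib.Helper3.QDiag.RDF
import Groth.Agent.Lib.Helper3.QDiag.FLift
import Groth.Agent.Lib.Helper3.QDiag.AffDiag
import Groth.Agent.Lib.Helper3.AlgSt.DiagMore

/-!
# The diagonal of a prestack with an fppf-locally surjective affine chart (helper3)

Let `𝒳` be a prestack in groupoids over `(Sch/S)` for the fpqc topology and
`w : (Sch/X) ⟶ 𝒳` an affine functor through which every point of `𝒳` factors fppf locally, with
`X ⟶ S` quasi-separated.  Then the diagonal of `𝒳` is representable by algebraic spaces and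
quasi-affine.
-/

set_option autoImplicit false
universe v₂ u₂ v₃ u₃ v u
open CategoryTheory CategoryTheory.Functor CategoryTheory.Limits Opposite AlgebraicGeometry

namespace Groth.Agent.H3.QDiag

open Groth.Agent.H3.FibCatAux Groth.Agent.H3.GerbAux Groth.Agent.H3.FpCalc Groth.Agent.H3.TwoCart
  Groth.Agent.H3.StackPsh Groth.Agent.H3.PshBridge Groth.Agent.H3.AlgStAux Groth.Agent.H3.RepBridge
  Groth.Agent.H3.SetoidPsh Groth.Agent.H3.BaseChangeSp Groth.Agent.H3.AlgStComp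
  Groth.Agent.H3.AlgStProps Groth.Agent.H3.AlgStBridge2 Groth.Agent.H3.AlgStCharts
  Groth.Agent.H3.AlgStDescent Groth.Agent.H3.Whisker Groth.Agent.H3.AlgStLES
  Groth.Agent.H3.AlgStProd Groth.Agent.H3.AlgStDiag Groth.Agent.H3.StackMore
  Groth.Agent.H3.AlgStAlgebraic Groth.Agent.H3.AlgStDiagProp
  Groth.Agent.H3.DiagSquare Groth.Agent.H3.AlgStDiagEt Groth.Agent.H3.AlgStAffine
open AlgSp

variable {S : Scheme.{u}} {𝒳 : AlgSt.Cat S} {X : Over S}

section Fpqc

lemma isSheaf_termSp_Jq : Presieve.IsSheaf (Jq S) (termSp (S := S)).obj := by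
  intro U R _ x _
  have huniq : ∀ (V : Over S) (a b : (termSp (S := S)).obj.obj (op V)), a = b := fun V a b => by
    apply ULift.ext
    exact Over.mkIdTerminal.hom_ext _ _
  exact ⟨⟨Over.mkIdTerminal.from U⟩, fun _ _ _ => huniq _ _ _, fun _ _ => huniq _ _ _⟩

lemma isStack_selfOver_Jq : Stk.IsStack (Jq S) (FibCat.selfOver (Over S)) :=
  isStack_of_isEquivOver _ _ isEquivOver_toSelf_termSp
    ((isStack_ofPsh_iff _ _).2 isSheaf_termSp_Jq)

lemma isPrestack_selfOver_Jq : Stk.IsPrestack (Jq S) (FibCat.selfOver (Over S)) :=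
  isPrestack_of_isStack _ isStack_selfOver_Jq

lemma isStack_overCat_Jq (U : Over S) : Stk.IsStack (Jq S) (FibCat.overCat U) :=
  (isStack_overCat_iff U (Jq S)).2
    (GrothendieckTopology.Subcanonical.isSheaf_of_isRepresentable (J := Jq S) (yoneda.obj U))

end Fpqc

variable (w : FibCat.overCat X ⥤ᵇ 𝒳)

/-- **the diagonal is representable by algebraic spaces**, fppf version -/
theorem repByAlgSp1_diag_fppf (hpre : Stk.IsPrestack (Jq S) 𝒳) (hloc : FLocFac w)
    (hQA : AlgSt.RepByAlgSpWith IsQuasiAffineMor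
      (magicI w w (FibCat.toSelf 𝒳) (magicIso w w (FibCat.toSelf 𝒳)))) :
    AlgSt.RepByAlgSp1 (FibCat.diag (FibCat.toSelf 𝒳)) := by
  apply repByAlgSp1_of_fppf_local (FibCat.diag (FibCat.toSelf 𝒳)) (magicR w w (FibCat.toSelf 𝒳))
  · intro U y
    exact ⟨isStack_fp_diag (Jq S) isStack_overCat_Jq isPrestack_selfOver_Jq hpre U y,
      isFibSetoid_fp_diag hpre.1 U y⟩
  · exact exists_lift_magicR_fppf w hloc
  · exact magicSq_with w IsQuasiAffineMor hQA

/-- **the diagonal has `P`** as soon as `X ×_𝒳 X ⟶ X ×_S X` has, fppf version -/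
theorem repByAlgSpWith_diag_fppf (P : MorphismProperty (Sp S)) (hPb : BaseChangeSp P)
    (hP : IsLocalOnBase IsFppfCover P)
    (hΔ : AlgSt.RepByAlgSp1 (FibCat.diag (FibCat.toSelf 𝒳))) (hloc : FLocFac w)
    (hI : AlgSt.RepByAlgSpWith P
      (magicI w w (FibCat.toSelf 𝒳) (magicIso w w (FibCat.toSelf 𝒳)))) :
    AlgSt.RepByAlgSpWith P (FibCat.diag (FibCat.toSelf 𝒳)) := by
  apply repByAlgSpWith_descent P hPb hP (FibCat.diag (FibCat.toSelf 𝒳)) hΔ
    (magicR w w (FibCat.toSelf 𝒳))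
  · intro U y
    obtain ⟨V, c, z, hce, hcf, hcs, ⟨ι⟩⟩ := exists_lift_magicR_fppf w hloc U y
    refine ⟨Sieve.generate (Presieve.singleton c), ?_, ?_⟩
    · exact Groth.Agent.H5.AlgSp.mem_J_of_fppf c hce hcf hcs _
        ⟨V, 𝟙 V, c, Presieve.singleton.mk, Category.id_comp c⟩
    · rintro V' h ⟨T', k, c', ⟨⟩, rfl⟩
      obtain ⟨κ⟩ := overMapComp k c
      exact ⟨BasedFunctor.comp (AlgSt.overMap k) z,
        ⟨whiskerL (AlgSt.overMap k) ι ≪≫ whiskerR κ y⟩⟩
  · exact magicSq_with w P hI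

section Mixed

variable {𝒜 ℬ 𝒞 : BasedCategory.{u, u + 1} (Over S)}

/-- composition of functors representable by algebraic spaces with different properties -/
theorem repByAlgSpWith_comp_mixed (h𝒜 : FibCat.IsFibGrpd 𝒜.p) (hℬ : FibCat.IsFibGrpd ℬ.p)
    (P Q R : MorphismProperty (Sp S)) (hPb : BaseChangeSp P) (hP : OfCharts P)
    (hc : ∀ ⦃X Y Z : Sp S⦄, IsAlgSpace X → IsAlgSpace Y → IsAlgSpace Z →
      ∀ (a : X ⟶ Y) (b : Y ⟶ Z), P a → Q b → R (a ≫ b))
    (f : 𝒜 ⥤ᵇ ℬ) (g : ℬ ⥤ᵇ 𝒞)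
    (hf : AlgSt.RepByAlgSpWith P f) (hg : AlgSt.RepByAlgSpWith Q g) :
    AlgSt.RepByAlgSpWith R (BasedFunctor.comp f g) := by
  intro U z
  obtain ⟨G₁, e_g, he_g, hb⟩ := hg U z
  let w : AlgSt.ofSp G₁.obj ⥤ᵇ ℬ := BasedFunctor.comp e_g (FibCat.fpSnd z g)
  obtain ⟨V, a, e_f, he_f, ⟨ι⟩, ha⟩ := exists_space_of_fp' P hPb hP h𝒜 hℬ f hf G₁ w
  let α : BasedFunctor.comp w (BasedFunctor.id ℬ) ≅ BasedFunctor.comp e_g (FibCat.fpSnd z g) :=
    Iso.refl _
  let N := fpMap (F' := w) (G' := f) (F := FibCat.fpSnd z g) (G := f) e_g (BasedFunctor.id 𝒜)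
    (BasedFunctor.id ℬ) α (idSq f)
  have hN : FibCat.IsEquivOver N := by
    have : (BasedFunctor.id ℬ).toFunctor.Full := Functor.Full.id
    have : (BasedFunctor.id ℬ).toFunctor.Faithful := Functor.Faithful.id
    exact isEquivOver_fpMap _ _ _ _ _ he_g isEquivOver_id
  let R' := pasteR z g f
  have hR : FibCat.IsEquivOver R' := isEquivOver_pasteR z g f
  let e := BasedFunctor.comp e_f (BasedFunctor.comp N R')
  have he : FibCat.IsEquivOver e := isEquivOver_comp e_f _ he_f (isEquivOver_comp N R' hN hR)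
  refine ⟨V, e, he, ?_⟩
  have key : AlgSt.spMapOfOver (BasedFunctor.comp e (FibCat.fpFst z (BasedFunctor.comp f g))) =
      a.hom ≫ AlgSt.spMapOfOver (BasedFunctor.comp e_g (FibCat.fpFst z g)) := by
    rw [← spMapOfOver_ofSpMap_comp]
    apply spMapOfOver_eq_of_pointwise
    intro x
    let Ψ := BasedFunctor.comp e_g (FibCat.fpFst z g)
    refine ⟨Ψ.map (appIso ι x).hom, ?_⟩
    have h1 : (AlgSt.ofSp G₁.obj).p.IsHomLift (𝟙 x.base) (appIso ι x).hom :=
      appIso_hom_isHomLift ι x rfl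
    exact BasedFunctor.preserves_isHomLift Ψ (𝟙 x.base) (appIso ι x).hom
  rw [key]
  exact hc V.property G₁.property (IsAlgSpace.yon_obj U) _ _ ha hb

/-- a quasi-compact immersion followed by an affine morphism is quasi-affine -/
theorem isQuasiAffineMor_comp {F₁ F₂ F₃ : Sp S} (a : F₁ ⟶ F₂) (b : F₂ ⟶ F₃)
    (ha : RepWith (@QuasiCompact ⊓ @IsImmersion) a) (hb : RepWith @IsAffineHom b) :
    IsQuasiAffineMor (a ≫ b) := by
  intro Z hZ g
  haveI : IsAffine Z.left := hZ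
  obtain ⟨W₂, i₂, fst₂, sq₂⟩ := hb.1 g
  have hi₂ : IsAffineHom i₂.left := hb.2 g fst₂ i₂ sq₂
  haveI : IsAffine W₂.left := isAffine_of_isAffineHom i₂.left
  obtain ⟨W₁, i₁, fst₁, sq₁⟩ := ha.1 fst₂
  have hi₁ : (@QuasiCompact ⊓ @IsImmersion : MorphismProperty Scheme.{u}) i₁.left :=
    ha.2 fst₂ fst₁ i₁ sq₁
  haveI : QuasiCompact i₁.left := hi₁.1
  haveI : IsImmersion i₁.left := hi₁.2
  haveI : CompactSpace W₁.left := QuasiCompact.compactSpace_of_compactSpace i₁.left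
  refine ⟨W₁, i₁ ≫ i₂, fst₁, ?_, Scheme.IsQuasiAffine.of_isImmersion i₁.left⟩
  rw [Functor.map_comp]
  exact sq₁.paste_vert sq₂

end Mixed

/-- `X ×_𝒳 X ⟶ X ×_S X` is quasi-affine when the chart is affine and `X ⟶ S` is
quasi-separated -/
theorem repByAlgSpWith_magicI_qa (h𝒳 : FibCat.IsFibGrpd 𝒳.p)
    (hwA : AlgSt.RepByAlgSpWith (RepWith @IsAffineHom) w) [QuasiSeparated X.hom] :
    AlgSt.RepByAlgSpWith IsQuasiAffineMor
      (magicI w w (FibCat.toSelf 𝒳) (magicIso w w (FibCat.toSelf 𝒳))) := by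
  have hU := (isFibSetoid_overCat X).1
  have hX : (@QuasiCompact ⊓ @IsImmersion : MorphismProperty Scheme.{u})
      (pullback.diagonal X.hom) := ⟨QuasiSeparated.quasiCompact_diagonal, inferInstance⟩
  have hΔ : AlgSt.RepByAlgSpWith (RepWith (@QuasiCompact ⊓ @IsImmersion))
      (FibCat.diag (BasedFunctor.comp w (FibCat.toSelf 𝒳))) := by
    rw [eq_toSelf (BasedFunctor.comp w (FibCat.toSelf 𝒳))]
    exact diag_toSelf_overCat (@QuasiCompact ⊓ @IsImmersion) X hX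
  have ha : AlgSt.RepByAlgSpWith (RepWith @IsAffineHom) (FibCat.fpFst w w) :=
    repByAlgSpWith_fpFst (RepWith @IsAffineHom) w w hwA
  have hb : AlgSt.RepByAlgSpWith (RepWith (@QuasiCompact ⊓ @IsImmersion))
      (FibCat.diag (FibCat.fpFst (BasedFunctor.comp w (FibCat.toSelf 𝒳))
        (BasedFunctor.comp w (FibCat.toSelf 𝒳)))) :=
    repByAlgSpWith_diag_fpFst (RepWith (@QuasiCompact ⊓ @IsImmersion)) _ _ hΔ
  have e : BasedFunctor.comp (magicI w w (FibCat.toSelf 𝒳) (magicIso w w (FibCat.toSelf 𝒳)))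
      (FibCat.fpFst (BasedFunctor.comp w (FibCat.toSelf 𝒳))
        (BasedFunctor.comp w (FibCat.toSelf 𝒳))) ≅ FibCat.fpFst w w :=
    eqToIso (by apply basedFunctor_ext; rfl)
  have e' : BasedFunctor.comp (BasedFunctor.id _) (FibCat.fpFst w w) ≅
      BasedFunctor.comp (magicI w w (FibCat.toSelf 𝒳) (magicIso w w (FibCat.toSelf 𝒳)))
        (FibCat.fpFst (BasedFunctor.comp w (FibCat.toSelf 𝒳))
          (BasedFunctor.comp w (FibCat.toSelf 𝒳))) := e.symm
  have h1 := Groth.Agent.H3.AlgStDiagMore.repByAlgSpWith_graph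
    (RepWith (@QuasiCompact ⊓ @IsImmersion)) (FibCat.fpFst w w)
    (FibCat.fpFst (BasedFunctor.comp w (FibCat.toSelf 𝒳)) (BasedFunctor.comp w (FibCat.toSelf 𝒳)))
    (magicI w w (FibCat.toSelf 𝒳) (magicIso w w (FibCat.toSelf 𝒳))) e' hb
  have h2 := Groth.Agent.H3.AlgStStackRep.repByAlgSpWith_fpSnd (RepWith @IsAffineHom) (FibCat.fpFst w w)
    (FibCat.fpFst (BasedFunctor.comp w (FibCat.toSelf 𝒳)) (BasedFunctor.comp w (FibCat.toSelf 𝒳)))
    ha
  have hG := goodC_repWith (S := S) (@QuasiCompact ⊓ @IsImmersion)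
  have h3 := repByAlgSpWith_comp_mixed (X6401 w w hU hU h𝒳)
    (X6401 _ _ (X6401 w w hU hU h𝒳) (X6401 _ _ hU hU isFibGrpd_id) hU)
    (RepWith (@QuasiCompact ⊓ @IsImmersion)) (RepWith @IsAffineHom) IsQuasiAffineMor
    hG.bc hG.charts (fun _ _ _ _ _ _ a b ha hb => isQuasiAffineMor_comp a b ha hb) _ _ h1 h2
  have h4 : BasedFunctor.comp (FibCat.fpLift (BasedFunctor.id _)
      (magicI w w (FibCat.toSelf 𝒳) (magicIso w w (FibCat.toSelf 𝒳))) e')
      (FibCat.fpSnd (FibCat.fpFst w w) (FibCat.fpFst (BasedFunctor.comp w (FibCat.toSelf 𝒳))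
        (BasedFunctor.comp w (FibCat.toSelf 𝒳)))) =
      magicI w w (FibCat.toSelf 𝒳) (magicIso w w (FibCat.toSelf 𝒳)) := by
    apply basedFunctor_ext; rfl
  rw [h4] at h3
  exact h3

end Groth.Agent.H3.QDiag
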