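import Mathlib
import Groth.Agent.H4.QstE
import Groth.Agent.Lib.Helper3.QDiag.Main
import Groth.Agent.Lib.Helper3.FibCatYoneda
import Groth.Agent.Lib.Helper3.FFPostcomp
import Groth.Agent.Lib.Helper3.QStk.Main
import Groth.Agent.Lib.Helper3.QStk.DD
import Groth.Agent.Lib.Helper3.AlgSpCov.YonCoprod
import Groth.Agent.Lib.Helper3.LocSec
import Groth.Agent.Lib.Helper3.TorsAff
import Groth.Agent.Lib.Helper3.FpqcLocal2
import Groth.Agent.Lib.Helper5.AlgSp.AffineMor
import Groth.Agent.Lib.Helper5.AlgSp.LocPBasic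

/-!
# The quotient stack `[X/G]` for étale-locally trivial torsors (helper3)

The canonical functor `(Sch/X) ⟶ [X/G]` is representable by algebraic spaces and every point of
`[X/G]` factors through it étale locally; `[X/G]` is a prestack for the fppf topology.
-/

set_option autoImplicit false
universe v₂ u₂ v u
open CategoryTheory CategoryTheory.Functor CategoryTheory.Limits Opposite AlgebraicGeometry

namespace Groth.Agent.H3.QDiag

section Yoneda

variable {C : Type u} [Category.{v} C] {𝒳 : BasedCategory.{v₂, u₂} C} {U : C}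

open Groth.Agent.H3.FibCatAux in
/-- 2-Yoneda: two functors `C/U ⟶ 𝒳` over `C` into a category fibred in groupoids are isomorphic
as soon as their values at the identity are related by a morphism over the identity -/
theorem iso_of_id_hom (h𝒳 : FibCat.IsFibGrpd 𝒳.p) (G H : FibCat.overCat U ⥤ᵇ 𝒳)
    (ξ : G.obj (Over.mk (𝟙 U)) ⟶ H.obj (Over.mk (𝟙 U))) (hξ : 𝒳.p.IsHomLift (𝟙 U) ξ) :
    Nonempty (G ≅ H) := by
  haveI := hξ
  have hH : FibCat.PreservesStronglyCartesian H := Groth.Agent.H3.FFPostcomp.preserves_all h𝒳 H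
  obtain ⟨α, -⟩ : ∃ α : G ⟶ H, α = Groth.Agent.H3.FibCatYoneda.ext G H hH ξ := ⟨_, rfl⟩
  have hiso : ∀ A : Over U, IsIso (α.toNatTrans.app A) := fun A => by
    haveI : 𝒳.p.IsHomLift (𝟙 A.left) (α.toNatTrans.app A) := α.isHomLift' A
    exact isIso_of_isHomLift_id 𝒳.p h𝒳 (U := A.left) _
  exact ⟨BasedNatIso.mkNatIso
    (NatIso.ofComponents (fun A => @asIso _ _ _ _ (α.toNatTrans.app A) (hiso A))
      (fun w => α.toNatTrans.naturality w))
    (fun A => α.isHomLift' A)⟩

end Yoneda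

section Quot

open Groth.Agent.H4 Groth.Agent.H4.QstE Groth.Agent.H4.QstA Groth.Agent.H4.QstD
  Groth.Agent.H3.AlgSpCov Groth.Agent.H3.FibCatYoneda
open MonoidalCategory CartesianMonoidalCategory

variable {S : Scheme.{u}} {G : Over S} [GrpObj G] {X : Over S} {aX : AlgGrp.Action G X}

/-- instances for the étale precoverage -/
lemma etale_bc : Scheme.etalePrecoverage.{u}.IsStableUnderBaseChange :=
  inferInstanceAs (Scheme.precoverage @Etale).IsStableUnderBaseChange

lemma etale_comp : Scheme.etalePrecoverage.{u}.IsStableUnderComposition :=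
  inferInstanceAs (Scheme.precoverage @Etale).IsStableUnderComposition

attribute [local instance] etale_bc etale_comp

/-- étale local sections of a torsor, assembled into one étale covering -/
theorem exists_etale_section (A : AlgSt.QuotObj Scheme.etalePrecoverage G aX) :
    ∃ (V : Over S) (σ : V ⟶ A.P), Etale (σ ≫ A.π).left ∧ Surjective (σ ≫ A.π).left := by
  obtain ⟨R₀, hR₀, hsec⟩ := A.loc
  obtain ⟨I, T, f, hcov, hgen⟩ :=
    Groth.Agent.H3.QStk.small_precoverage @Etale A.base.left R₀ hR₀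
  rw [Scheme.ofArrows_mem_precoverage_iff] at hcov
  obtain ⟨hsurj, hP⟩ := hcov
  have hs : ∀ i, ∃ s : T i ⟶ A.P.left, s ≫ A.π.left = f i := by
    intro i
    obtain ⟨Y, h, g, hg, hfac⟩ := hgen i
    obtain ⟨s, hs⟩ := hsec g hg
    have hs' : s ≫ A.π.left = g := hs
    exact ⟨h ≫ s, by rw [Category.assoc, hs', hfac]⟩
  choose s hs using hs
  have hw : ∀ i, s i ≫ A.P.hom = f i ≫ A.base.hom := fun i => by
    rw [← Over.w A.π, ← Category.assoc, hs i]
  obtain ⟨W, hW⟩ : ∃ W : I → Over S, W = fun i => Over.mk (f i ≫ A.base.hom) := ⟨_, rfl⟩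
  subst hW
  obtain ⟨σi, hσi⟩ : ∃ σi : ∀ i, Over.mk (f i ≫ A.base.hom) ⟶ A.P,
      ∀ i, (σi i).left = s i := ⟨fun i => Over.homMk (s i) (hw i), fun i => rfl⟩
  have key : (sigmaOverDesc (fun i => Over.mk (f i ≫ A.base.hom)) σi ≫ A.π).left =
      Sigma.desc f := by
    apply Sigma.hom_ext
    intro i
    rw [Sigma.ι_desc, Over.comp_left]
    show Sigma.ι _ i ≫ (Sigma.desc fun j => (σi j).left) ≫ A.π.left = f i
    rw [Sigma.ι_desc_assoc, hσi]
    exact hs i
  refine ⟨sigmaOver (fun i => Over.mk (f i ≫ A.base.hom)),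
    sigmaOverDesc (fun i => Over.mk (f i ≫ A.base.hom)) σi, ?_, ?_⟩
  · rw [key]
    exact IsZariskiLocalAtSource.sigmaDesc (P := @Etale) hP
  · have hsj : Surjective (Sigma.desc f) := by
      refine ⟨fun z => ?_⟩
      obtain ⟨j, t, ht⟩ := hsurj z
      refine ⟨Sigma.ι T j t, ?_⟩
      rw [← Scheme.Hom.comp_apply, Sigma.ι_desc, ht]
    rw [key]
    exact hsj

lemma surjective_π (A : AlgSt.QuotObj Scheme.etalePrecoverage G aX) : Surjective A.π.left := by
  obtain ⟨V, σ, -, hs⟩ := exists_etale_section A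
  rw [Over.comp_left] at hs
  exact Surjective.of_comp σ.left A.π.left

lemma isFibGrpd_quot :
    FibCat.IsFibGrpd (AlgSt.QuotSt Scheme.etalePrecoverage G aX).p :=
  Groth.Agent.H3.QStk.isFibGrpd

/-- `[X/G]` is a prestack for the fppf topology -/
theorem isPrestack_quot :
    Stk.IsPrestack (AlgSp.J S) (AlgSt.QuotSt Scheme.etalePrecoverage G aX) :=
  ⟨isFibGrpd_quot, fun _ _ hR => Groth.Agent.H3.QStk.isPrestackFor (AlgSp.J S) hR⟩

/-- the canonical chart is representable by algebraic spaces (even by schemes) -/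
theorem repByAlgSp1_ff : AlgSt.RepByAlgSp1 (ff Scheme.etalePrecoverage aX) :=
  fun _ y => ⟨⟨(AlgSp.yon S).obj (AA y).P, AlgSp.IsAlgSpace.yon_obj _⟩, EE y, EE_equiv y⟩

/-- properties of `G ⟶ S` pass to the chart -/
theorem repByAlgSpWith_ff (P : MorphismProperty Scheme.{u}) [P.IsStableUnderBaseChange]
    [P.IsLocalAtTarget Scheme.fpqcPrecoverage] (hG : P G.hom) :
    AlgSt.RepByAlgSpWith (AlgSp.RepWith P) (ff Scheme.etalePrecoverage aX) := by
  intro U y
  refine ⟨⟨(AlgSp.yon S).obj (AA y).P, AlgSp.IsAlgSpace.yon_obj _⟩, EE y, EE_equiv y, ?_⟩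
  show AlgSp.RepWith P (AlgSt.spMapOfOver
    (BasedFunctor.comp (EE y) (FibCat.fpFst y (ff Scheme.etalePrecoverage aX))))
  rw [spMap_EE, AlgSp.repWith_yon_map_iff]
  exact prop_piU y P (Groth.Agent.H3.QStk.prop_π P
    Groth.Agent.H3.LocSec.etalePrecoverage_le_fpqcPrecoverage (AA y) hG)

theorem surj_ff :
    AlgSt.RepByAlgSpWith AlgSp.IsSurjectiveMor (ff Scheme.etalePrecoverage aX) := by
  intro U y
  refine ⟨⟨(AlgSp.yon S).obj (AA y).P, AlgSp.IsAlgSpace.yon_obj _⟩, EE y, EE_equiv y, ?_⟩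
  show AlgSp.IsSurjectiveMor (AlgSt.spMapOfOver
    (BasedFunctor.comp (EE y) (FibCat.fpFst y (ff Scheme.etalePrecoverage aX))))
  rw [spMap_EE]
  apply Groth.Agent.H5.AlgSp.points_map_surjective_of_repWith
  rw [AlgSp.repWith_yon_map_iff]
  exact prop_piU y @Surjective (surjective_π (AA y))

/-- every point of `[X/G]` factors through the chart étale locally -/
theorem locFac_ff : LocFac (ff Scheme.etalePrecoverage aX) := by
  intro U y
  obtain ⟨V, σ, he, hs⟩ := exists_etale_section (AA y)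
  haveI h2 : IsIso (eqToHom (hAA y)).left :=
    (Functor.map_isIso (Over.forget S) (eqToHom (hAA y)) :
      IsIso ((Over.forget S).map (eqToHom (hAA y))))
  have hleft : (σ ≫ piU y).left = (σ ≫ (AA y).π).left ≫ (eqToHom (hAA y)).left := by
    unfold piU
    simp only [Over.comp_left, Category.assoc]
  refine ⟨V, σ ≫ piU y, σ ≫ (AA y).φ, ?_, ?_, ?_⟩
  · rw [hleft]
    exact (MorphismProperty.cancel_right_of_respectsIso @Etale _ _).2 he
  · rw [hleft]
    exact (MorphismProperty.cancel_right_of_respectsIso @Surjective _ _).2 hs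
  · obtain ⟨m₁, hm₁⟩ : ∃ m₁ : (Over.map (σ ≫ piU y)).obj (Over.mk (𝟙 V)) ⟶ tw y (pt σ),
        m₁.left = 𝟙 V := ⟨Over.homMk (𝟙 V) (by unfold tw; simp), rfl⟩
    obtain ⟨m₂, hm₂⟩ : ∃ m₂ : Over.mk (dn (pt σ) ≫ (AA y).φ) ⟶
        (Over.map (σ ≫ (AA y).φ)).obj (Over.mk (𝟙 V)), m₂.left = 𝟙 V :=
      ⟨Over.homMk (𝟙 V) (by simp), rfl⟩
    have h1 : (AlgSt.QuotSt Scheme.etalePrecoverage G aX).p.IsHomLift (𝟙 V) (y.map m₁) := by
      have := map_isHomLift y m₁
      rw [hm₁] at this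
      exact this
    have h3 : (AlgSt.QuotSt Scheme.etalePrecoverage G aX).p.IsHomLift (𝟙 V)
        ((ff Scheme.etalePrecoverage aX).map m₂) := by
      have := map_isHomLift (ff Scheme.etalePrecoverage aX) m₂
      rw [hm₂] at this
      exact this
    have h2' : (AlgSt.QuotSt Scheme.etalePrecoverage G aX).p.IsHomLift (𝟙 V)
        (alp y (pt σ)).hom := alp_lift y (pt σ)
    obtain ⟨ξ₀, hξ₀⟩ : ∃ ξ₀ : (BasedFunctor.comp (AlgSt.overMap (σ ≫ piU y)) y).obj
        (Over.mk (𝟙 V)) ⟶ (BasedFunctor.comp (AlgSt.overMap (σ ≫ (AA y).φ))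
          (ff Scheme.etalePrecoverage aX)).obj (Over.mk (𝟙 V)),
        ξ₀ = y.map m₁ ≫ (alp y (pt σ)).hom ≫ (ff Scheme.etalePrecoverage aX).map m₂ :=
      ⟨_, rfl⟩
    have hlift : (AlgSt.QuotSt Scheme.etalePrecoverage G aX).p.IsHomLift (𝟙 V) ξ₀ := by
      rw [hξ₀]
      haveI := h2'
      haveI := h3
      haveI h23 : (AlgSt.QuotSt Scheme.etalePrecoverage G aX).p.IsHomLift (𝟙 V)
          ((alp y (pt σ)).hom ≫ (ff Scheme.etalePrecoverage aX).map m₂) :=
        IsHomLift.comp_of_lift_id _ V _ _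
      exact @IsHomLift.comp_of_lift_id _ _ _ _ _ V _ _ _ (y.map m₁) _ h1 h23
    obtain ⟨i⟩ := iso_of_id_hom isFibGrpd_quot _ _ ξ₀ hlift
    exact ⟨i.symm⟩

end Quot

end Groth.Agent.H3.QDiag
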