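import Mathlib
import Groth.Agent.Lib.Helper3.QDiag.Quot
import Groth.Agent.Lib.Helper3.QDiag.FMain

/-!
# The quotient stack `[X/G]` for fppf-locally trivial torsors (helper3)

The canonical functor `(Sch/X) ⟶ [X/G]` is representable by algebraic spaces and every point of
`[X/G]` factors through it fppf locally; `[X/G]` is a prestack for the fpqc topology.
-/

set_option autoImplicit false
universe v₂ u₂ v u
open CategoryTheory CategoryTheory.Functor CategoryTheory.Limits Opposite AlgebraicGeometry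

namespace Groth.Agent.H3.QDiag

section FQuot

open Groth.Agent.H4 Groth.Agent.H4.QstE Groth.Agent.H4.QstA Groth.Agent.H4.QstD
  Groth.Agent.H3.AlgSpCov Groth.Agent.H3.FibCatYoneda
open MonoidalCategory CartesianMonoidalCategory

variable {S : Scheme.{u}} {G : Over S} [GrpObj G] {X : Over S} {aX : AlgGrp.Action G X}

/-- fppf local sections of a torsor, assembled into one fppf covering -/
theorem exists_fppf_section (A : AlgSt.QuotObj Scheme.fppfPrecoverage G aX) :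
    ∃ (V : Over S) (σ : V ⟶ A.P), Flat (σ ≫ A.π).left ∧
      LocallyOfFinitePresentation (σ ≫ A.π).left ∧ Surjective (σ ≫ A.π).left := by
  obtain ⟨R₀, hR₀, hsec⟩ := A.loc
  obtain ⟨I, T, f, hcov, hgen⟩ :=
    Groth.Agent.H3.QStk.small_precoverage (@Flat ⊓ @LocallyOfFinitePresentation)
      A.base.left R₀ hR₀
  rw [Scheme.ofArrows_mem_precoverage_iff] at hcov
  obtain ⟨hsurj, hP⟩ := hcov
  have hs : ∀ i, ∃ s : T i ⟶ A.P.left, s ≫ A.π.left = f i := by
    intro i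
    obtain ⟨Y, h, g, hg, hfac⟩ := hgen i
    obtain ⟨s, hs⟩ := hsec g hg
    have hs' : s ≫ A.π.left = g := hs
    exact ⟨h ≫ s, by rw [Category.assoc, hs', hfac]⟩
  choose s hs using hs
  have hw : ∀ i, s i ≫ A.P.hom = f i ≫ A.base.hom := fun i => by
    rw [← Over.w A.π, ← Category.assoc, hs i]
  obtain ⟨W, hW⟩ : ∃ W : I → Over S, W = fun i => Over.mk (f i ≫ A.base.hom) := ⟨_, rfl⟩
  subst hW
  obtain ⟨σi, hσi⟩ : ∃ σi : ∀ i, Over.mk (f i ≫ A.base.hom) ⟶ A.P,
      ∀ i, (σi i).left = s i := ⟨fun i => Over.homMk (s i) (hw i), fun i => rfl⟩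
  have key : (sigmaOverDesc (fun i => Over.mk (f i ≫ A.base.hom)) σi ≫ A.π).left =
      Sigma.desc f := by
    apply Sigma.hom_ext
    intro i
    rw [Sigma.ι_desc, Over.comp_left]
    show Sigma.ι _ i ≫ (Sigma.desc fun j => (σi j).left) ≫ A.π.left = f i
    rw [Sigma.ι_desc_assoc, hσi]
    exact hs i
  refine ⟨sigmaOver (fun i => Over.mk (f i ≫ A.base.hom)),
    sigmaOverDesc (fun i => Over.mk (f i ≫ A.base.hom)) σi, ?_, ?_, ?_⟩
  · rw [key]
    exact IsZariskiLocalAtSource.sigmaDesc (P := @Flat) (fun i => (hP i).1)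
  · rw [key]
    exact IsZariskiLocalAtSource.sigmaDesc (P := @LocallyOfFinitePresentation)
      (fun i => (hP i).2)
  · have hsj : Surjective (Sigma.desc f) := by
      refine ⟨fun z => ?_⟩
      obtain ⟨j, t, ht⟩ := hsurj z
      refine ⟨Sigma.ι T j t, ?_⟩
      rw [← Scheme.Hom.comp_apply, Sigma.ι_desc, ht]
    rw [key]
    exact hsj

lemma isFibGrpd_quot_fppf :
    FibCat.IsFibGrpd (AlgSt.QuotSt Scheme.fppfPrecoverage G aX).p :=
  Groth.Agent.H3.QStk.isFibGrpd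

/-- `[X/G]` is a prestack for the fpqc topology -/
theorem isPrestack_quot_fpqc :
    Stk.IsPrestack (Jq S) (AlgSt.QuotSt Scheme.fppfPrecoverage G aX) :=
  ⟨isFibGrpd_quot_fppf, fun _ _ hR => Groth.Agent.H3.QStk.isPrestackFor (Jq S) hR⟩

/-- the canonical chart is representable by algebraic spaces (even by schemes) -/
theorem repByAlgSp1_ff_fppf : AlgSt.RepByAlgSp1 (ff Scheme.fppfPrecoverage aX) :=
  fun _ y => ⟨⟨(AlgSp.yon S).obj (AA y).P, AlgSp.IsAlgSpace.yon_obj _⟩, EE y, EE_equiv y⟩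

/-- properties of `G ⟶ S` pass to the chart -/
theorem repByAlgSpWith_ff_fppf (P : MorphismProperty Scheme.{u}) [P.IsStableUnderBaseChange]
    [P.IsLocalAtTarget Scheme.fpqcPrecoverage] (hG : P G.hom) :
    AlgSt.RepByAlgSpWith (AlgSp.RepWith P) (ff Scheme.fppfPrecoverage aX) := by
  intro U y
  refine ⟨⟨(AlgSp.yon S).obj (AA y).P, AlgSp.IsAlgSpace.yon_obj _⟩, EE y, EE_equiv y, ?_⟩
  show AlgSp.RepWith P (AlgSt.spMapOfOver
    (BasedFunctor.comp (EE y) (FibCat.fpFst y (ff Scheme.fppfPrecoverage aX))))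
  rw [spMap_EE, AlgSp.repWith_yon_map_iff]
  exact prop_piU y P (Groth.Agent.H3.QStk.prop_π P
    Scheme.fppfPrecoverage_le_fpqcPrecoverage (AA y) hG)

/-- every point of `[X/G]` factors through the chart fppf locally -/
theorem flocFac_ff : FLocFac (ff Scheme.fppfPrecoverage aX) := by
  intro U y
  obtain ⟨V, σ, he, hf, hs⟩ := exists_fppf_section (AA y)
  haveI h2 : IsIso (eqToHom (hAA y)).left :=
    (Functor.map_isIso (Over.forget S) (eqToHom (hAA y)) :
      IsIso ((Over.forget S).map (eqToHom (hAA y))))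
  have hleft : (σ ≫ piU y).left = (σ ≫ (AA y).π).left ≫ (eqToHom (hAA y)).left := by
    unfold piU
    simp only [Over.comp_left, Category.assoc]
  refine ⟨V, σ ≫ piU y, σ ≫ (AA y).φ, ?_, ?_, ?_, ?_⟩
  · rw [hleft]
    exact (MorphismProperty.cancel_right_of_respectsIso @Flat _ _).2 he
  · rw [hleft]
    exact (MorphismProperty.cancel_right_of_respectsIso @LocallyOfFinitePresentation _ _).2 hf
  · rw [hleft]
    exact (MorphismProperty.cancel_right_of_respectsIso @Surjective _ _).2 hs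
  · obtain ⟨m₁, hm₁⟩ : ∃ m₁ : (Over.map (σ ≫ piU y)).obj (Over.mk (𝟙 V)) ⟶ tw y (pt σ),
        m₁.left = 𝟙 V := ⟨Over.homMk (𝟙 V) (by unfold tw; simp), rfl⟩
    obtain ⟨m₂, hm₂⟩ : ∃ m₂ : Over.mk (dn (pt σ) ≫ (AA y).φ) ⟶
        (Over.map (σ ≫ (AA y).φ)).obj (Over.mk (𝟙 V)), m₂.left = 𝟙 V :=
      ⟨Over.homMk (𝟙 V) (by simp), rfl⟩
    have h1 : (AlgSt.QuotSt Scheme.fppfPrecoverage G aX).p.IsHomLift (𝟙 V) (y.map m₁) := by
      have := map_isHomLift y m₁
      rw [hm₁] at this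
      exact this
    have h3 : (AlgSt.QuotSt Scheme.fppfPrecoverage G aX).p.IsHomLift (𝟙 V)
        ((ff Scheme.fppfPrecoverage aX).map m₂) := by
      have := map_isHomLift (ff Scheme.fppfPrecoverage aX) m₂
      rw [hm₂] at this
      exact this
    have h2' : (AlgSt.QuotSt Scheme.fppfPrecoverage G aX).p.IsHomLift (𝟙 V)
        (alp y (pt σ)).hom := alp_lift y (pt σ)
    obtain ⟨ξ₀, hξ₀⟩ : ∃ ξ₀ : (BasedFunctor.comp (AlgSt.overMap (σ ≫ piU y)) y).obj
        (Over.mk (𝟙 V)) ⟶ (BasedFunctor.comp (AlgSt.overMap (σ ≫ (AA y).φ))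
          (ff Scheme.fppfPrecoverage aX)).obj (Over.mk (𝟙 V)),
        ξ₀ = y.map m₁ ≫ (alp y (pt σ)).hom ≫ (ff Scheme.fppfPrecoverage aX).map m₂ :=
      ⟨_, rfl⟩
    have hlift : (AlgSt.QuotSt Scheme.fppfPrecoverage G aX).p.IsHomLift (𝟙 V) ξ₀ := by
      rw [hξ₀]
      haveI := h2'
      haveI := h3
      haveI h23 : (AlgSt.QuotSt Scheme.fppfPrecoverage G aX).p.IsHomLift (𝟙 V)
          ((alp y (pt σ)).hom ≫ (ff Scheme.fppfPrecoverage aX).map m₂) :=
        IsHomLift.comp_of_lift_id _ V _ _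
      exact @IsHomLift.comp_of_lift_id _ _ _ _ _ V _ _ _ (y.map m₁) _ h1 h23
    obtain ⟨i⟩ := iso_of_id_hom isFibGrpd_quot_fppf _ _ ξ₀ hlift
    exact ⟨i.symm⟩

/-- **quasi-affine diagonal of `[X/G]`** for affine `G` and `X ⟶ S` quasi-separated -/
theorem quot_diag_quasiAffine [IsAffineHom G.hom] [QuasiSeparated X.hom] :
    AlgSt.RepByAlgSp1 (FibCat.diag (FibCat.toSelf (AlgSt.QuotSt Scheme.fppfPrecoverage G aX))) ∧
    AlgSt.RepByAlgSpWith AlgSp.IsQuasiAffineMor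
      (FibCat.diag (FibCat.toSelf (AlgSt.QuotSt Scheme.fppfPrecoverage G aX))) := by
  have hwA : AlgSt.RepByAlgSpWith (AlgSp.RepWith @IsAffineHom) (ff Scheme.fppfPrecoverage aX) :=
    repByAlgSpWith_ff_fppf (aX := aX) @IsAffineHom inferInstance
  have hQA := repByAlgSpWith_magicI_qa (ff Scheme.fppfPrecoverage aX) isFibGrpd_quot_fppf hwA
  have hΔ := repByAlgSp1_diag_fppf (ff Scheme.fppfPrecoverage aX) isPrestack_quot_fpqc
    flocFac_ff hQA
  exact ⟨hΔ, repByAlgSpWith_diag_fppf (ff Scheme.fppfPrecoverage aX) AlgSp.IsQuasiAffineMor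
    baseChangeSp_isQuasiAffineMor
    (Groth.Agent.H3.AlgStProps.isLocalOnBase_fppf_of_fpqc
      Groth.Agent.H3.AlgSpCov.isLocalOnBase_fpqc_isQuasiAffineMor) hΔ flocFac_ff hQA⟩

end FQuot

end Groth.Agent.H3.QDiag
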