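import Mathlib

/-!
# The sheaf condition for a finer topology can be checked locally for a coarser one (helper3)

Let `K ≤ J` be Grothendieck topologies, `P` a `K`-sheaf with a map `a : P ⟶ B` to a `J`-sheaf.
If for every section `u` of `B` there is a `K`-covering sieve on whose members `P` satisfies the
`J`-sheaf condition over the restriction of `u`, then `P` is a `J`-sheaf.
-/

set_option autoImplicit false
universe w v₁ u₁
open CategoryTheory Opposite

namespace Groth.Agent.H3.QDiag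

variable {C : Type u₁} [Category.{v₁} C] (K J : GrothendieckTopology C)
  {P B : Cᵒᵖ ⥤ Type w} (a : P ⟶ B)

/-- `P` satisfies the sheaf condition for `J` over the section `b` of `B` -/
def GoodAt {T : C} (b : B.obj (op T)) : Prop :=
  (∀ (R : Sieve T), R ∈ J T → ∀ s s' : P.obj (op T), a.app _ s = b → a.app _ s' = b →
      (∀ ⦃Y : C⦄ (g : Y ⟶ T), R g → P.map g.op s = P.map g.op s') → s = s') ∧
  (∀ (R : Sieve T), R ∈ J T → ∀ x : Presieve.FamilyOfElements P R.arrows, x.Compatible →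
      (∀ ⦃Y : C⦄ (g : Y ⟶ T) (hg : R g), a.app _ (x g hg) = B.map g.op b) →
      ∃ s : P.obj (op T), ∀ ⦃Y : C⦄ (g : Y ⟶ T) (hg : R g), P.map g.op s = x g hg)

theorem isSheaf_of_locally_good (hP : Presieve.IsSheaf K P) (hB : Presieve.IsSheaf J B)
    (H : ∀ (T : C) (u : B.obj (op T)), ∃ RK ∈ K T, ∀ ⦃Y : C⦄ (f : Y ⟶ T), RK f →
      GoodAt J a (B.map f.op u)) : Presieve.IsSheaf J P := by
  intro T R hR x hx
  have hxs := (Presieve.compatible_iff_sieveCompatible x).1 hx
  -- Step 1: the section of `B`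
  obtain ⟨xB, hxB⟩ : ∃ xB : Presieve.FamilyOfElements B R.arrows,
      xB = fun Y g hg => a.app _ (x g hg) := ⟨_, rfl⟩
  have hxBc : xB.Compatible := by
    intro Y₁ Y₂ Z g₁ g₂ f₁ f₂ h₁ h₂ e
    rw [hxB]
    show B.map g₁.op (a.app _ (x f₁ h₁)) = B.map g₂.op (a.app _ (x f₂ h₂))
    rw [← NatTrans.naturality_apply, ← NatTrans.naturality_apply, hx g₁ g₂ h₁ h₂ e]
  obtain ⟨u, hu, huniq⟩ := hB R hR xB hxBc
  have hu' : ∀ ⦃Y : C⦄ (g : Y ⟶ T) (hg : R g), B.map g.op u = a.app _ (x g hg) :=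
    fun Y g hg => by
      have := hu g hg
      rw [hxB] at this
      exact this
  obtain ⟨RK, hRK, hgood⟩ := H T u
  have xcongr : ∀ {Z : C} {k k' : Z ⟶ T} (_ : k = k') (hk : R k) (hk' : R k'),
      x k hk = x k' hk' := by
    intro Z k k' e hk hk'
    subst e
    rfl
  -- Step 3: the sections over the members of `RK`
  have key : ∀ ⦃Y : C⦄ (f : Y ⟶ T), RK f → ∃ s : P.obj (op Y),
      (a.app _ s = B.map f.op u ∧
        ∀ ⦃Z : C⦄ (g : Z ⟶ Y) (hg : R (g ≫ f)), P.map g.op s = x (g ≫ f) hg) ∧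
      ∀ s' : P.obj (op Y), (a.app _ s' = B.map f.op u ∧
        ∀ ⦃Z : C⦄ (g : Z ⟶ Y) (hg : R (g ≫ f)), P.map g.op s' = x (g ≫ f) hg) → s' = s := by
    intro Y f hf
    obtain ⟨hsep, hglue⟩ := hgood f hf
    have hRf : R.pullback f ∈ J Y := J.pullback_stable f hR
    have hcond : ∀ ⦃Z : C⦄ (g : Z ⟶ Y) (hg : R (g ≫ f)),
        a.app _ (x (g ≫ f) hg) = B.map g.op (B.map f.op u) := fun Z g hg => by
      rw [← hu' (g ≫ f) hg, op_comp, Functor.map_comp_apply]
    obtain ⟨s, hs⟩ := hglue (R.pullback f) hRf (x.pullback f) (hx.pullback f)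
      (fun Z g hg => hcond g hg)
    have hs' : ∀ ⦃Z : C⦄ (g : Z ⟶ Y) (hg : R (g ≫ f)), P.map g.op s = x (g ≫ f) hg :=
      fun Z g hg => hs g hg
    have has : a.app _ s = B.map f.op u := by
      apply (hB _ hRf).isSeparatedFor.ext
      intro Z g hg
      rw [← NatTrans.naturality_apply, hs' g hg]
      exact hcond g hg
    refine ⟨s, ⟨has, hs'⟩, ?_⟩
    rintro s' ⟨has', hs''⟩
    exact hsep (R.pullback f) hRf s' s has' has
      (fun Z g hg => (hs'' g hg).trans (hs' g hg).symm)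
  choose sK hsK using key
  -- Step 4: compatibility
  have hcompat : Presieve.FamilyOfElements.SieveCompatible
      (sK : Presieve.FamilyOfElements P RK.arrows) := by
    intro Y Z f g hf
    symm
    apply (hsK (g ≫ f) (RK.downward_closed hf g)).2
    refine ⟨?_, ?_⟩
    · rw [NatTrans.naturality_apply, (hsK f hf).1.1, op_comp, Functor.map_comp_apply]
    · intro W h hh
      rw [← Functor.map_comp_apply, ← op_comp]
      have hh' : R ((h ≫ g) ≫ f) := by rw [Category.assoc]; exact hh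
      rw [(hsK f hf).1.2 (h ≫ g) hh']
      exact xcongr (Category.assoc _ _ _) _ _
  have hcompat' : Presieve.FamilyOfElements.Compatible
      (sK : Presieve.FamilyOfElements P RK.arrows) :=
    (Presieve.compatible_iff_sieveCompatible _).2 hcompat
  -- Step 5: glue
  obtain ⟨s, hs, hsuniq⟩ := hP RK hRK sK hcompat'
  have hs' : ∀ ⦃Y : C⦄ (f : Y ⟶ T) (hf : RK f), P.map f.op s = sK f hf := fun Y f hf => hs f hf
  have hclaim : ∀ ⦃Y : C⦄ (f : Y ⟶ T) (hf : RK f) (hfR : R f), x f hfR = sK f hf := by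
    intro Y f hf hfR
    apply (hsK f hf).2
    refine ⟨(hu' f hfR).symm, fun Z g hg => ?_⟩
    exact (hxs f g hfR).symm
  refine ⟨s, ?_, ?_⟩
  · intro Y r hr
    apply (hP _ (K.pullback_stable r hRK)).isSeparatedFor.ext
    intro Z h hh
    have hh' : RK (h ≫ r) := hh
    rw [← Functor.map_comp_apply, ← op_comp, hs' (h ≫ r) hh',
      ← hclaim (h ≫ r) hh' (R.downward_closed hr h)]
    exact hxs r h hr
  · intro s' hs'am
    apply hsuniq
    intro Y f hf
    apply (hsK f hf).2
    have has' : a.app _ s' = u := by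
      apply huniq
      intro Z g hg
      rw [hxB]
      show B.map g.op (a.app _ s') = a.app _ (x g hg)
      rw [← NatTrans.naturality_apply, hs'am g hg]
    refine ⟨?_, fun Z g hg => ?_⟩
    · rw [NatTrans.naturality_apply, has']
    · rw [← Functor.map_comp_apply, ← op_comp]
      exact hs'am (g ≫ f) hg

end Groth.Agent.H3.QDiag
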