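import Mathlib
import Groth.Agent.Lib.Helper3.QDiag.ShLoc
import Groth.Agent.Lib.Helper3.QDiag.Main
import Groth.Agent.Lib.Helper3.AlgSpCov.SourceLocP

/-!
# Stacks for the étale topology which are étale locally stacks for the fppf topology (helper3)

A stack `𝒲 ⟶ (Sch/U)` fibred in setoids for the étale topology whose base change to an étale
covering of `U` is a stack for the fppf topology is a stack for the fppf topology.  Consequently
étale-local descent of representability by algebraic spaces only needs stacks for the étale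
topology.
-/

set_option autoImplicit false
universe v₂ u₂ v₃ u₃ v u
open CategoryTheory CategoryTheory.Functor CategoryTheory.Limits Opposite AlgebraicGeometry

namespace Groth.Agent.H3.QDiag

open Groth.Agent.H3.FibCatAux Groth.Agent.H3.GerbAux Groth.Agent.H3.FpCalc Groth.Agent.H3.TwoCart
  Groth.Agent.H3.StackPsh Groth.Agent.H3.PshBridge Groth.Agent.H3.AlgStAux Groth.Agent.H3.RepBridge
  Groth.Agent.H3.SetoidPsh Groth.Agent.H3.BaseChangeSp Groth.Agent.H3.AlgStComp
  Groth.Agent.H3.AlgStProps Groth.Agent.H3.AlgStBridge2 Groth.Agent.H3.AlgStCharts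
  Groth.Agent.H3.AlgStDescent Groth.Agent.H3.Whisker
open AlgSp

section Psh

universe w v₁ u₁

variable {C : Type u₁} [Category.{v₁} C] (J : GrothendieckTopology C)
  {P B Q V : Cᵒᵖ ⥤ Type w} {a : P ⟶ B} {c : V ⟶ B} {fst : Q ⟶ P} {snd : Q ⟶ V}

/-- the sheaf condition over sections of `B` coming from `V`, from the fibre product -/
theorem goodAt_of_isPullback (sq : IsPullback fst snd a c) (hQ : Presieve.IsSheaf J Q)
    {T : C} (vv : V.obj (op T)) : GoodAt J a (c.app _ vv) := by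
  constructor
  · intro R hR s s' hs hs' hag
    obtain ⟨q, hq1, hq2⟩ := psh_pullback_exists sq (op T) s vv hs
    obtain ⟨q', hq1', hq2'⟩ := psh_pullback_exists sq (op T) s' vv hs'
    have hqq : q = q' := by
      apply (hQ R hR).isSeparatedFor.ext
      intro Y g hg
      apply psh_pullback_ext sq
      · rw [NatTrans.naturality_apply, NatTrans.naturality_apply, hq1, hq1']
        exact hag g hg
      · rw [NatTrans.naturality_apply, NatTrans.naturality_apply, hq2, hq2']
    rw [← hq1, ← hq1', hqq]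
  · intro R hR x hx hax
    have hex : ∀ ⦃Y : C⦄ (g : Y ⟶ T) (hg : R g), ∃ q : Q.obj (op Y),
        fst.app _ q = x g hg ∧ snd.app _ q = V.map g.op vv := fun Y g hg => by
      apply psh_pullback_exists sq (op Y)
      rw [hax g hg, NatTrans.naturality_apply]
    choose qx hqx1 hqx2 using hex
    have hqc : Presieve.FamilyOfElements.Compatible (qx : Presieve.FamilyOfElements Q R.arrows) := by
      intro Y₁ Y₂ Z g₁ g₂ f₁ f₂ h₁ h₂ e
      apply psh_pullback_ext sq
      · rw [NatTrans.naturality_apply, NatTrans.naturality_apply, hqx1, hqx1]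
        exact hx g₁ g₂ h₁ h₂ e
      · rw [NatTrans.naturality_apply, NatTrans.naturality_apply, hqx2, hqx2,
          ← Functor.map_comp_apply, ← Functor.map_comp_apply, ← op_comp, ← op_comp, e]
    obtain ⟨q, hq, -⟩ := hQ R hR qx hqc
    refine ⟨fst.app _ q, fun Y g hg => ?_⟩
    rw [← NatTrans.naturality_apply, hq g hg, hqx1]

end Psh

variable {S : Scheme.{u}}

/-- the étale topology on schemes over `S` -/
abbrev Jet (S : Scheme.{u}) : GrothendieckTopology (Over S) := QuotSh.J Scheme.etalePrecoverage S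

lemma Jet_le_J : Jet S ≤ AlgSp.J S := by
  intro U R hR
  rw [GrothendieckTopology.mem_over_iff] at hR ⊢
  exact Precoverage.toGrothendieck_mono Groth.Agent.H3.AlgSpCov.etalePrecoverage_le_fppf _ hR

lemma generate_singleton_mem_Jet {T T' : Over S} (c : T' ⟶ T) [Etale c.left]
    [Surjective c.left] : Sieve.generate (Presieve.singleton c) ∈ Jet S T := by
  rw [GrothendieckTopology.mem_over_iff]
  have hmem : Presieve.singleton c.left ∈ Scheme.etalePrecoverage T.left := by
    show Presieve.singleton c.left ∈ Scheme.precoverage @Etale T.left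
    rw [Scheme.singleton_mem_precoverage_iff]
    exact ⟨c.left.surjective, inferInstance⟩
  refine GrothendieckTopology.superset_covering _ ?_
    (Precoverage.generate_mem_toGrothendieck hmem)
  rintro Z f ⟨Y, h, g, ⟨⟩, rfl⟩
  rw [Sieve.overEquiv_iff]
  refine ⟨T', Over.homMk h (by simp), c, Presieve.singleton.mk, ?_⟩
  apply Over.OverMorphism.ext
  simp

/-- a stack in setoids for the étale topology which is a stack for the fppf topology étale
locally on the base is a stack for the fppf topology -/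
theorem isStack_fppf_of_etale_local {𝒲 : AlgSt.Cat S} {U V : Over S}
    (π : 𝒲 ⥤ᵇ FibCat.overCat U) (hs : Stk.IsStack (Jet S) 𝒲) (hset : FibCat.IsFibSetoid 𝒲.p)
    (c : V ⟶ U) (hce : Etale c.left) (hcs : Surjective c.left)
    (hloc : Stk.IsStack (AlgSp.J S) (FibCat.fp (AlgSt.overMap c) π)) :
    Stk.IsStack (AlgSp.J S) 𝒲 := by
  obtain ⟨P₀, E, hE⟩ := exists_equivOver_ofPsh hset
  have hK : Presieve.IsSheaf (Jet S) P₀ :=
    (isStack_ofPsh_iff P₀ (Jet S)).1 (isStack_of_isEquivOver _ E hE hs)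
  obtain ⟨e, ⟨α⟩, ⟨β⟩⟩ := hE
  have he : FibCat.IsEquivOver e := ⟨E, ⟨β⟩, ⟨α⟩⟩
  obtain ⟨Φ₀, hΦ₀⟩ : ∃ Φ₀ : Stk.ofPsh P₀ ⥤ᵇ Stk.ofPsh ((pyon S).obj U),
      Φ₀ = BasedFunctor.comp (BasedFunctor.comp e π) (ofOver U) := ⟨_, rfl⟩
  obtain ⟨a₀, ha₀⟩ : ∃ a₀ : P₀ ⟶ (pyon S).obj U, a₀ = pshMapOf Φ₀ := ⟨_, rfl⟩
  obtain ⟨ι⟩ := iso_ofPshMap_pshMapOf Φ₀
  have hΦeq : BasedFunctor.comp Φ₀ (toOver U) = BasedFunctor.comp e π := by
    rw [hΦ₀]
    rfl
  have β' : BasedFunctor.comp (Stk.ofPshMap a₀) (toOver U) ≅ BasedFunctor.comp e π := by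
    rw [ha₀]
    exact (whiskerR ι (toOver U)).symm ≪≫ eqToIso hΦeq
  have sqP := IsPullback.of_hasPullback a₀ ((pyon S).map c)
  have hL := isTwoCartOver_of_isPullback sqP
  obtain ⟨α'⟩ := overMapIso c
  obtain ⟨⟨hU1, hU2⟩, -⟩ := (X5139 (toOver U)).1 (isEquivOver_toOver U)
  let N := fpMap (F' := Stk.ofPshMap ((pyon S).map c)) (G' := Stk.ofPshMap a₀)
    (F := AlgSt.overMap c) (G := π) (toOver V) e (toOver U) α' β'
  have hN : FibCat.IsEquivOver N := isEquivOver_fpMap _ _ _ _ _ (isEquivOver_toOver V) he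
  let L := FibCat.fpLift (Stk.ofPshMap (pullback.snd a₀ ((pyon S).map c)))
    (Stk.ofPshMap (pullback.fst a₀ ((pyon S).map c))) (sqE sqP.w)
  have hM : FibCat.IsEquivOver (BasedFunctor.comp L N) := isEquivOver_comp L N hL hN
  have hQ : Presieve.IsSheaf (AlgSp.J S) (pullback a₀ ((pyon S).map c)) := by
    rw [← isStack_ofPsh_iff]
    exact (isStack_iff_of_isEquivOver _ (BasedFunctor.comp L N) hM).2 hloc
  have hB : Presieve.IsSheaf (AlgSp.J S) ((pyon S).obj U) :=
    (isSheaf_iff_isSheaf_of_type _ _).1 ((yon S).obj U).property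
  have hJ : Presieve.IsSheaf (AlgSp.J S) P₀ := by
    apply isSheaf_of_locally_good (Jet S) (AlgSp.J S) a₀ hK hB
    intro T u
    haveI := hce
    haveI := hcs
    refine ⟨(Sieve.generate (Presieve.singleton c)).pullback u.down,
      (Jet S).pullback_stable u.down (generate_singleton_mem_Jet c), ?_⟩
    intro Y f hf
    obtain ⟨h, hfac⟩ : ∃ h : Y ⟶ V, h ≫ c = f ≫ u.down := by
      obtain ⟨Z, h, g, ⟨⟩, hfac⟩ := hf
      exact ⟨h, hfac⟩
    obtain ⟨vv, hvv⟩ : ∃ vv : ((pyon S).obj V).obj (op Y), vv.down = h := ⟨⟨h⟩, rfl⟩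
    have hb : ((pyon S).obj U).map f.op u = ((pyon S).map c).app (op Y) vv := by
      apply ULift.ext
      show f ≫ u.down = vv.down ≫ c
      rw [hvv, hfac]
    rw [hb]
    exact goodAt_of_isPullback (AlgSp.J S) sqP hQ vv
  exact (isStack_iff_of_isEquivOver _ e he).1 ((isStack_ofPsh_iff P₀ _).2 hJ)

variable {𝒳 𝒴 𝒵 : AlgSt.Cat S}

/-- **étale-local descent of representability by algebraic spaces**, for stacks for the étale
topology -/
theorem repByAlgSp1_of_etale_local_et (f : 𝒳 ⥤ᵇ 𝒴) (g : 𝒵 ⥤ᵇ 𝒴)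
    (hst : ∀ (U : Over S) (y : FibCat.overCat U ⥤ᵇ 𝒴),
      Stk.IsStack (Jet S) (FibCat.fp y f) ∧ FibCat.IsFibSetoid (FibCat.fp y f).p)
    (hg : ∀ (U : Over S) (y : FibCat.overCat U ⥤ᵇ 𝒴), ∃ (V : Over S) (c : V ⟶ U)
      (z : FibCat.overCat V ⥤ᵇ 𝒵), Etale c.left ∧ Surjective c.left ∧
        Nonempty (BasedFunctor.comp z g ≅ BasedFunctor.comp (AlgSt.overMap c) y))
    (h' : AlgSt.RepByAlgSp1 (FibCat.fpFst g f)) : AlgSt.RepByAlgSp1 f := by
  apply repByAlgSp1_of_etale_local f g ?_ hg h'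
  intro U y
  obtain ⟨hs, hset⟩ := hst U y
  refine ⟨?_, hset⟩
  obtain ⟨V, c, z, hce, hcs, ⟨ι⟩⟩ := hg U y
  have r0 : AlgSt.RepByAlgSp (FibCat.fp z (FibCat.fpFst g f)) := h' V z
  have r1 : AlgSt.RepByAlgSp (FibCat.fp (BasedFunctor.comp z g) f) :=
    (repByAlgSp_iff_of_isEquivOver (pasteL z g f) (isEquivOver_pasteL z g f)).1 r0
  have r2 : AlgSt.RepByAlgSp (FibCat.fp (BasedFunctor.comp (AlgSt.overMap c) y) f) :=
    repByAlgSp_fp_of_iso f ι r1
  have r3 : AlgSt.RepByAlgSp (FibCat.fp (AlgSt.overMap c) (FibCat.fpFst y f)) :=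
    (repByAlgSp_iff_of_isEquivOver (pasteL (AlgSt.overMap c) y f)
      (isEquivOver_pasteL (AlgSt.overMap c) y f)).2 r2
  exact isStack_fppf_of_etale_local (FibCat.fpFst y f) hs hset c hce hcs
    (Groth.Agent.H3.AlgStStackRep.isStack_of_repByAlgSp r3)

end Groth.Agent.H3.QDiag
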