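import Mathlib
import Groth.Agent.Lib.Helper3.QDiag.EtSt
import Groth.Agent.Lib.Helper3.QDiag.Quot
import Groth.Agent.Lib.Helper3.QDiag.FMain
import Groth.Agent.Lib.Helper3.AlgSt.Points.FpChart
import Groth.Agent.Lib.Helper8.ESS.EtLoc

/-!
# Stacks for the étale topology with a smooth atlas are algebraic (helper3)

A stack in groupoids for the big étale topology with a smooth surjective chart representable by
algebraic spaces has diagonal representable by algebraic spaces.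
-/

set_option autoImplicit false
universe v₂ u₂ v₃ u₃ v u
open CategoryTheory CategoryTheory.Functor CategoryTheory.Limits Opposite AlgebraicGeometry

namespace Groth.Agent.H3.QDiag

open Groth.Agent.H3.FibCatAux Groth.Agent.H3.GerbAux Groth.Agent.H3.FpCalc Groth.Agent.H3.TwoCart
  Groth.Agent.H3.StackPsh Groth.Agent.H3.PshBridge Groth.Agent.H3.AlgStAux Groth.Agent.H3.RepBridge
  Groth.Agent.H3.SetoidPsh Groth.Agent.H3.BaseChangeSp Groth.Agent.H3.AlgStComp
  Groth.Agent.H3.AlgStProps Groth.Agent.H3.AlgStBridge2 Groth.Agent.H3.AlgStCharts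
  Groth.Agent.H3.AlgStDescent Groth.Agent.H3.Whisker Groth.Agent.H3.AlgStLES
  Groth.Agent.H3.AlgStProd Groth.Agent.H3.AlgStDiag Groth.Agent.H3.StackMore
  Groth.Agent.H3.AlgStAlgebraic Groth.Agent.H3.AlgSpCov
open AlgSp

variable {S : Scheme.{u}} {𝒳 𝒴 𝒵 : AlgSt.Cat S}

/-- smooth surjective 1-morphisms representable by algebraic spaces: every chart of the target
lifts along a smooth surjective morphism of schemes -/
theorem exists_smooth_chart (z : 𝒵 ⥤ᵇ 𝒴) (hz₁ : AlgSt.RepByAlgSpWith (LocP @Smooth) z)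
    (hz₃ : AlgSt.RepByAlgSpWith IsSurjectiveMor z) (U : Over S) (y : FibCat.overCat U ⥤ᵇ 𝒴) :
    ∃ (T : Over S) (c : T ⟶ U) (t : FibCat.overCat T ⥤ᵇ 𝒵), Smooth c.left ∧
      Function.Surjective c.left ∧
      Nonempty (BasedFunctor.comp t z ≅ BasedFunctor.comp (AlgSt.overMap c) y) := by
  obtain ⟨G, e, he, hb1⟩ := hz₁ U y
  have hb3 := ((repByAlgSpWith_iff_forall _ good_isSurjectiveMor.bc
    good_isSurjectiveMor.toC.charts z).1 hz₃).2 U y G e he
  set b := AlgSt.spMapOfOver (BasedFunctor.comp e (FibCat.fpFst y z)) with hb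
  obtain ⟨T, q, hqe, hqs⟩ := G.property.atlas
  obtain ⟨c, hc⟩ : ∃ c : T ⟶ U, (yon S).map c = q ≫ b := ⟨(yon S).preimage (q ≫ b), by simp⟩
  have hc1 : Smooth c.left := by
    have : LocP @Smooth ((yon S).map c) := by
      rw [hc]; exact Groth.Agent.H5.AlgSp.locP_comp_etale hqe hb1
    exact locP_yon_map this
  have hc3 : Function.Surjective c.left := by
    intro u
    obtain ⟨g, hg⟩ := hb3 (Points.ofScheme U u)
    obtain ⟨t', ht'⟩ := Groth.Agent.H5.AlgSp.points_map_surjective_of_repWith hqs g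
    refine ⟨Points.toScheme T t', ?_⟩
    rw [← Points.toScheme_ofPt c (Points.toScheme T t')]
    have h1 : Points.ofPt ((yon S).map c) (Points.toScheme T t') =
        Points.map ((yon S).map c) (Points.ofScheme T (Points.toScheme T t')) := by
      rw [Points.map_ofPt, Category.id_comp]
    rw [h1, Points.ofScheme_toScheme, hc, Points.map_comp, ht', hg, Points.toScheme_ofScheme]
  let Ψ : FibCat.overCat T ⥤ᵇ FibCat.fp y z :=
    BasedFunctor.comp (ofOver T) (BasedFunctor.comp (AlgSt.ofSpMap q) e)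
  refine ⟨T, c, BasedFunctor.comp Ψ (FibCat.fpSnd y z), hc1, hc3, ?_⟩
  let Φ : AlgSt.ofSp ((yon S).obj T) ⥤ᵇ FibCat.overCat U :=
    BasedFunctor.comp (AlgSt.ofSpMap q) (BasedFunctor.comp e (FibCat.fpFst y z))
  have hΦ : AlgSt.spMapOfOver Φ = (yon S).map c := by
    rw [hc]; exact spMapOfOver_ofSpMap_comp q _
  obtain ⟨ι₁⟩ := projIso Φ
  rw [hΦ] at ι₁
  obtain ⟨ι₂⟩ := overMapIso c
  let i2 : BasedFunctor.comp Ψ (FibCat.fpFst y z) ≅ AlgSt.overMap c :=
    whiskerL (ofOver T) (ι₁ ≪≫ ι₂)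
  let i1 : BasedFunctor.comp (BasedFunctor.comp Ψ (FibCat.fpFst y z)) y ≅
      BasedFunctor.comp (BasedFunctor.comp Ψ (FibCat.fpSnd y z)) z :=
    whiskerL Ψ (FibCat.fpIso y z)
  exact ⟨i1.symm ≪≫ whiskerR i2 y⟩

/-- every point factors étale locally through a smooth surjective chart -/
theorem locFac_of_smooth {U : Over S} (x : FibCat.overCat U ⥤ᵇ 𝒳)
    (hx₁ : AlgSt.RepByAlgSpWith (LocP @Smooth) x)
    (hx₃ : AlgSt.RepByAlgSpWith IsSurjectiveMor x) : LocFac x := by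
  intro T y
  obtain ⟨W, c, t, hc1, hc3, ⟨ι⟩⟩ := exists_smooth_chart x hx₁ hx₃ T y
  haveI : Smooth c.left := hc1
  have key : ∀ τ : T.left, ∃ (T' : Scheme.{u}) (g : T' ⟶ T.left) (s : T' ⟶ W.left),
      Etale g ∧ s ≫ c.left = g ∧ τ ∈ Set.range g := by
    intro τ
    obtain ⟨w, rfl⟩ := hc3 τ
    exact Groth.Agent.H8.ESS.exists_etale_nbhd_section c.left w
  choose T' g s hg hs hτ using key
  have hw : ∀ τ, s τ ≫ W.hom = g τ ≫ T.hom := fun τ => by
    rw [← Over.w c, ← Category.assoc, hs τ]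
  obtain ⟨σi, hσi⟩ : ∃ σi : ∀ τ, Over.mk (g τ ≫ T.hom) ⟶ W,
      ∀ τ, (σi τ).left = s τ := ⟨fun τ => Over.homMk (s τ) (hw τ), fun τ => rfl⟩
  obtain ⟨V, hV⟩ : ∃ V : Over S, V = sigmaOver (fun τ => Over.mk (g τ ≫ T.hom)) := ⟨_, rfl⟩
  obtain ⟨σ, hσ⟩ : ∃ σ : V ⟶ W,
      HEq σ (sigmaOverDesc (fun τ => Over.mk (g τ ≫ T.hom)) σi) := by
    subst hV
    exact ⟨_, HEq.rfl⟩
  subst hV
  have hσ' : σ = sigmaOverDesc (fun τ => Over.mk (g τ ≫ T.hom)) σi := eq_of_heq hσ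
  have keyl : (σ ≫ c).left = Sigma.desc g := by
    rw [hσ']
    apply Sigma.hom_ext
    intro τ
    rw [Sigma.ι_desc, Over.comp_left]
    show Sigma.ι _ τ ≫ (Sigma.desc fun j => (σi j).left) ≫ c.left = g τ
    rw [Sigma.ι_desc_assoc, hσi]
    exact hs τ
  have hce : Etale (σ ≫ c).left := by
    rw [keyl]
    exact IsZariskiLocalAtSource.sigmaDesc (P := @Etale) hg
  have hcs : Surjective (σ ≫ c).left := by
    have hsj : Surjective (Sigma.desc g) := by
      refine ⟨fun τ => ?_⟩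
      obtain ⟨t', ht'⟩ := hτ τ
      refine ⟨Sigma.ι T' τ t', ?_⟩
      rw [← Scheme.Hom.comp_apply, Sigma.ι_desc, ht']
    rw [keyl]
    exact hsj
  obtain ⟨ξ, ⟨κ⟩⟩ := Groth.Agent.H3.AlgStPoints.exists_overMap_iso
    (BasedFunctor.comp (AlgSt.overMap σ) t)
  obtain ⟨k⟩ := overMapComp σ c
  refine ⟨_, σ ≫ c, ξ, hce, hcs, ⟨?_⟩⟩
  exact (whiskerR κ x).symm ≪≫ whiskerL (AlgSt.overMap σ) ι ≪≫ whiskerR k y

section Et

lemma isSheaf_termSp (J' : GrothendieckTopology (Over S)) :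
    Presieve.IsSheaf J' (termSp (S := S)).obj := by
  intro U R _ x _
  have huniq : ∀ (V : Over S) (a b : (termSp (S := S)).obj.obj (op V)), a = b := fun V a b => by
    apply ULift.ext
    exact Over.mkIdTerminal.hom_ext _ _
  exact ⟨⟨Over.mkIdTerminal.from U⟩, fun _ _ _ => huniq _ _ _, fun _ _ => huniq _ _ _⟩

lemma isPrestack_selfOver_Jet : Stk.IsPrestack (Jet S) (FibCat.selfOver (Over S)) :=
  isPrestack_of_isStack _ (isStack_of_isEquivOver _ _ isEquivOver_toSelf_termSp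
    ((isStack_ofPsh_iff _ _).2 (isSheaf_termSp (Jet S))))

lemma isStack_overCat_Jet (U : Over S) : Stk.IsStack (Jet S) (FibCat.overCat U) :=
  (isStack_overCat_iff U (Jet S)).2 (Presieve.isSheaf_of_le _ Jet_le_J
    ((isStack_overCat_iff U (AlgSp.J S)).1 (isStack_overCat U)))

variable {X : Over S} (w : FibCat.overCat X ⥤ᵇ 𝒳)

/-- **the diagonal is representable by algebraic spaces**, for prestacks for the étale topology -/
theorem repByAlgSp1_diag_et (hpre : Stk.IsPrestack (Jet S) 𝒳) (hw : AlgSt.RepByAlgSp1 w)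
    (hloc : LocFac w) : AlgSt.RepByAlgSp1 (FibCat.diag (FibCat.toSelf 𝒳)) := by
  apply repByAlgSp1_of_etale_local_et (FibCat.diag (FibCat.toSelf 𝒳))
    (magicR w w (FibCat.toSelf 𝒳))
  · intro U y
    exact ⟨isStack_fp_diag (Jet S) isStack_overCat_Jet isPrestack_selfOver_Jet hpre U y,
      isFibSetoid_fp_diag hpre.1 U y⟩
  · exact exists_lift_magicR w hloc
  · apply magicSq_rep1
    exact repByAlgSp1_of_repByAlgSp (hw X w)
      (repByAlgSp_fp_selfOver _ _ (repByAlgSp_overCat X) (repByAlgSp_overCat X)) _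

end Et

/-- **S16816** -/
theorem isAlgStack_etale_of_atlas (h𝒳 : Stk.IsStack (Jet S) 𝒳)
    (hU : AlgSt.HasAtlas (AlgSp.LocP @Smooth) 𝒳) :
    AlgSt.IsAlgStack Scheme.etalePrecoverage 𝒳 := by
  obtain ⟨U, x, hx₁, hx₃⟩ := hU
  refine ⟨h𝒳, ?_, ⟨U, x, hx₁, hx₃⟩⟩
  have hw : AlgSt.RepByAlgSp1 x := fun T y => by
    obtain ⟨F, e, he, -⟩ := hx₁ T y
    exact ⟨F, e, he⟩
  exact repByAlgSp1_diag_et x (isPrestack_of_isStack _ h𝒳) hw (locFac_of_smooth x hx₁ hx₃)

end Groth.Agent.H3.QDiag
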