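import Mathlib
import Groth.Agent.Lib.Helper3.QDiag.FQuot
import Groth.Agent.Lib.Helper3.AlgSt.DiagIff

/-!
# Affine diagonal of `[X/G]` (helper3)

For an affine flat finitely presented group scheme `G` acting on `X` quasi-separated over `S`, the
diagonal of `[X/G]` is affine iff the diagonal of `X ⟶ S` is.
-/

set_option autoImplicit false
universe v₂ u₂ v₃ u₃ v u
open CategoryTheory CategoryTheory.Functor CategoryTheory.Limits Opposite AlgebraicGeometry

namespace Groth.Agent.H3.QDiag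

open Groth.Agent.H3.FibCatAux Groth.Agent.H3.GerbAux Groth.Agent.H3.FpCalc Groth.Agent.H3.TwoCart
  Groth.Agent.H3.StackPsh Groth.Agent.H3.PshBridge Groth.Agent.H3.AlgStAux Groth.Agent.H3.RepBridge
  Groth.Agent.H3.SetoidPsh Groth.Agent.H3.BaseChangeSp Groth.Agent.H3.AlgStComp
  Groth.Agent.H3.AlgStProps Groth.Agent.H3.AlgStBridge2 Groth.Agent.H3.AlgStCharts
  Groth.Agent.H3.AlgStDescent Groth.Agent.H3.AlgStProd Groth.Agent.H3.AlgStDiag
  Groth.Agent.H3.StackMore Groth.Agent.H3.AlgStAlgebraic Groth.Agent.H3.AlgStDiagProp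
  Groth.Agent.H3.DiagSquare Groth.Agent.H3.AlgStDiagEt Groth.Agent.H3.AlgStAffine
  Groth.Agent.H3.AlgStDiagIff
open AlgSp

variable {S : Scheme.{u}} {𝒳 𝒴 : AlgSt.Cat S}

/-- the diagonal of the structure functor of `(Sch/X)` has `P₀` iff the diagonal of `X ⟶ S`
has -/
theorem diag_toSelf_overCat_iff (P₀ : MorphismProperty Scheme.{u}) [P₀.IsStableUnderBaseChange]
    [P₀.IsMultiplicative] (X : Over S) :
    AlgSt.RepByAlgSpWith (RepWith P₀) (FibCat.diag (FibCat.toSelf (FibCat.overCat X))) ↔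
      P₀ (pullback.diagonal X.hom) := by
  refine ⟨fun h => ?_, diag_toSelf_overCat P₀ X⟩
  have hG := goodC_repWith (S := S) P₀
  obtain ⟨tX, htX⟩ : ∃ tX : (yon S).obj X ⟶ termSp, tX = termSpIsTerminal.from _ := ⟨_, rfl⟩
  obtain ⟨toS, htoS⟩ : ∃ toS : X ⟶ Over.mk (𝟙 S), toS.left = X.hom :=
    ⟨Over.homMk X.hom (by simp), rfl⟩
  have h0 : tX = (yon S).map toS := termSpIsTerminal.hom_ext _ _
  let ε : BasedFunctor.comp (Stk.ofPshMap tX.hom)
        (FibCat.toSelf (Stk.ofPsh (termSp (S := S)).obj)) ≅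
      BasedFunctor.comp (toOver X) (FibCat.toSelf (FibCat.overCat X)) :=
    eqToIso ((eq_toSelf _).trans (eq_toSelf _).symm)
  have h2 : AlgSt.RepByAlgSpWith (RepWith P₀) (FibCat.diag (Stk.ofPshMap tX.hom)) :=
    (repByAlgSpWith_diag_iff_of_square (FibCat.toSelf (FibCat.overCat X))
      (Stk.ofPshMap tX.hom) (toOver X) (FibCat.toSelf (Stk.ofPsh (termSp (S := S)).obj)) ε
      (RepWith P₀) (isEquivOver_toOver X) isEquivOver_toSelf_termSp).2 h
  have h1 : RepWith P₀ (pullback.diagonal tX) :=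
    (repByAlgSpWith_diag_ofPshMap_iff tX (RepWith P₀) hG.bc hG.charts (IsAlgSpace.yon_obj X)
      (IsAlgSpace.yon_obj _)).1 h2
  have h1' : RepWith P₀ (pullback.diagonal ((yon S).map toS)) := by
    rw [h0] at h1
    exact h1
  have := (repWith_diagonal_yon_map_iff P₀ toS).1 h1'
  rw [htoS] at this
  exact this

/-- the diagonal of an affine morphism to a scheme is affine -/
theorem repWith_diagonal_of_affine {F : Sp S} {U : Over S} (a : F ⟶ (yon S).obj U)
    (h : RepWith @IsAffineHom a) : RepWith @IsAffineHom (pullback.diagonal a) := by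
  obtain ⟨W, g, fst, sq⟩ := h.1 (𝟙 ((yon S).obj U))
  have hg : IsAffineHom g.left := h.2 _ fst g sq
  haveI : IsIso fst := sq.isIso_fst_of_isIso
  have hcomp : fst ≫ a = (yon S).map g := by rw [sq.w, Category.comp_id]
  have h2 : RepWith @IsAffineHom (pullback.diagonal ((yon S).map g)) :=
    (repWith_diagonal_yon_map_iff _ g).2 inferInstance
  have h3 : (RepWith (S := S) @IsAffineHom).diagonal (fst ≫ a) := by
    rw [hcomp]
    exact h2
  exact ((RepWith (S := S) @IsAffineHom).diagonal.cancel_left_of_respectsIso fst a).1 h3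

/-- the diagonal of an affine functor is affine -/
theorem repByAlgSpWith_diag_of_affine (h𝒳 : FibCat.IsFibGrpd 𝒳.p) (h𝒴 : FibCat.IsFibGrpd 𝒴.p)
    (f : 𝒳 ⥤ᵇ 𝒴) (hf1 : AlgSt.RepByAlgSp1 f)
    (hf : AlgSt.RepByAlgSpWith (RepWith @IsAffineHom) f) :
    AlgSt.RepByAlgSpWith (RepWith @IsAffineHom) (FibCat.diag f) := by
  have hG := goodC_repWith (S := S) @IsAffineHom
  rw [repByAlgSpWith_diag_iff _ hG.bc hG.charts h𝒳 h𝒴 f hf1]
  intro U y G e he
  have h1 := (repByAlgSpWith_iff_forall' f hf1 _ hG.bc hG.charts).1 hf U y G e he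
  exact repWith_diagonal_of_affine _ h1

section Quot

open Groth.Agent.H4 Groth.Agent.H4.QstE Groth.Agent.H4.QstA Groth.Agent.H4.QstD
open MonoidalCategory CartesianMonoidalCategory

variable {G : Over S} [GrpObj G] {X : Over S} {aX : AlgGrp.Action G X}

/-- **affine diagonal of `[X/G]`** iff affine diagonal of `X ⟶ S` -/
theorem quot_diag_affine_iff [IsAffineHom G.hom] [QuasiSeparated X.hom] :
    AlgSt.RepByAlgSpWith AlgSp.IsAffineMor
        (FibCat.diag (FibCat.toSelf (AlgSt.QuotSt Scheme.fppfPrecoverage G aX))) ↔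
      IsAffineHom (pullback.diagonal X.hom) := by
  have hG := goodC_repWith (S := S) @IsAffineHom
  have hwA : AlgSt.RepByAlgSpWith (AlgSp.RepWith @IsAffineHom) (ff Scheme.fppfPrecoverage aX) :=
    repByAlgSpWith_ff_fppf (aX := aX) @IsAffineHom inferInstance
  have hU := (isFibSetoid_overCat X).1
  have h𝒳 := isFibGrpd_quot_fppf (aX := aX)
  rw [rep_isAffineMor_iff]
  constructor
  · intro hD
    have hj := repByAlgSpWith_diag_of_affine hU h𝒳 (ff Scheme.fppfPrecoverage aX)
      repByAlgSp1_ff_fppf hwA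
    have h1 := repByAlgSpWith_diag_comp_C (RepWith @IsAffineHom) hG hU h𝒳
      (ff Scheme.fppfPrecoverage aX)
      (FibCat.toSelf (AlgSt.QuotSt Scheme.fppfPrecoverage G aX)) hj hD
    rw [eq_toSelf (BasedFunctor.comp (ff Scheme.fppfPrecoverage aX)
      (FibCat.toSelf (AlgSt.QuotSt Scheme.fppfPrecoverage G aX)))] at h1
    exact (diag_toSelf_overCat_iff @IsAffineHom X).1 h1
  · intro hX
    have hΔ := (quot_diag_quasiAffine (aX := aX)).1
    exact repByAlgSpWith_diag_fppf (ff Scheme.fppfPrecoverage aX) (RepWith @IsAffineHom) hG.bc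
      (isLocalOnBase_fppf_of_fpqc
        Groth.Agent.H3.AlgSpCov.isLocalOnBase_fpqc_repWith_isAffineHom) hΔ flocFac_ff
      (repByAlgSpWith_magicI (ff Scheme.fppfPrecoverage aX) @IsAffineHom h𝒳 hwA hX)

end Quot

end Groth.Agent.H3.QDiag
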