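import Mathlib
import Groth.Agent.Lib.Helper3.QDiag.FAff
import Groth.Agent.Lib.Helper3.AlgSt.Points.FpChart
import Groth.Agent.Lib.Helper3.AlgSt.DiagLft

/-!
# Quasi-affine diagonal and quasi-affine charts (helper3)

For an algebraic stack `𝒳` over an affine scheme `S`: the diagonal of `𝒳` is quasi-affine iff there
is a smooth surjective chart `x : (Sch/U) ⟶ 𝒳` whose restrictions to the affine opens of `U` are
quasi-affine.
-/

set_option autoImplicit false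
universe v₂ u₂ v₃ u₃ v u
open CategoryTheory CategoryTheory.Functor CategoryTheory.Limits Opposite AlgebraicGeometry

namespace Groth.Agent.H3.QDiag

open Groth.Agent.H3.FibCatAux Groth.Agent.H3.GerbAux Groth.Agent.H3.FpCalc Groth.Agent.H3.TwoCart
  Groth.Agent.H3.StackPsh Groth.Agent.H3.PshBridge Groth.Agent.H3.AlgStAux Groth.Agent.H3.RepBridge
  Groth.Agent.H3.SetoidPsh Groth.Agent.H3.BaseChangeSp Groth.Agent.H3.AlgStComp
  Groth.Agent.H3.AlgStProps Groth.Agent.H3.AlgStBridge2 Groth.Agent.H3.AlgStCharts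
  Groth.Agent.H3.AlgStDescent Groth.Agent.H3.Whisker Groth.Agent.H3.AlgStLES
  Groth.Agent.H3.AlgStProd Groth.Agent.H3.AlgStDiag Groth.Agent.H3.StackMore
  Groth.Agent.H3.AlgStAlgebraic Groth.Agent.H3.AlgStDiagProp
  Groth.Agent.H3.DiagSquare Groth.Agent.H3.AlgStDiagEt Groth.Agent.H3.AlgStAffine
  Groth.Agent.H3.NoethDiag Groth.Agent.H3.AlgStDiagLft
open AlgSp

variable {S : Scheme.{u}} {𝒳 𝒴 : AlgSt.Cat S}

/-- descent of "representable by algebraic spaces with `P`" along a family of 1-morphisms through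
which every point factors fppf locally -/
theorem repByAlgSpWith_descent_family (P : MorphismProperty (Sp S)) (hPb : BaseChangeSp P)
    (hP : IsLocalOnBase IsFppfCover P) (f : 𝒳 ⥤ᵇ 𝒴) (hf : AlgSt.RepByAlgSp1 f)
    (hg : ∀ (U : Over S) (y : FibCat.overCat U ⥤ᵇ 𝒴), ∃ R ∈ J S U,
      ∀ ⦃V : Over S⦄ (h : V ⟶ U), R.arrows h →
        ∃ (𝒵 : AlgSt.Cat S) (g : 𝒵 ⥤ᵇ 𝒴) (z : FibCat.overCat V ⥤ᵇ 𝒵),
          Nonempty (BasedFunctor.comp z g ≅ BasedFunctor.comp (AlgSt.overMap h) y) ∧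
            AlgSt.RepByAlgSpWith P (FibCat.fpFst g f)) : AlgSt.RepByAlgSpWith P f := by
  intro U y
  obtain ⟨F, e, he⟩ := hf U y
  obtain ⟨R, hR, hloc⟩ := hg U y
  refine ⟨F, e, he, spMapOfOver_of_sieve P hPb hP (FibCat.fpFst y f) F e he R hR ?_⟩
  intro V h hRh
  obtain ⟨𝒵, g, z, ⟨ι⟩, h'⟩ := hloc h hRh
  have s1 : AlgSt.RepByAlgSpWith P (FibCat.fpFst z (FibCat.fpFst g f)) :=
    repByAlgSpWith_fpFst P (FibCat.fpFst g f) z h'
  have s2 : AlgSt.RepByAlgSpWith P (FibCat.fpFst (BasedFunctor.comp z g) f) := by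
    let ε : BasedFunctor.comp (FibCat.fpFst z (FibCat.fpFst g f)) (BasedFunctor.id _) ≅
        BasedFunctor.comp (pasteL z g f) (FibCat.fpFst (BasedFunctor.comp z g) f) := Iso.refl _
    exact repByAlgSpWith_of_square' P _ _ (pasteL z g f) (BasedFunctor.id _)
      (isEquivOver_pasteL z g f) isEquivOver_id ε s1
  have s3 : AlgSt.RepByAlgSpWith P (FibCat.fpFst (BasedFunctor.comp (AlgSt.overMap h) y) f) :=
    repByAlgSpWith_fpFst_of_iso P f ι s2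
  let ε : BasedFunctor.comp (FibCat.fpFst (AlgSt.overMap h) (FibCat.fpFst y f))
      (BasedFunctor.id _) ≅ BasedFunctor.comp (pasteL (AlgSt.overMap h) y f)
        (FibCat.fpFst (BasedFunctor.comp (AlgSt.overMap h) y) f) := Iso.refl _
  exact repByAlgSpWith_of_square P _ _ (pasteL (AlgSt.overMap h) y f) (BasedFunctor.id _)
    (isEquivOver_pasteL (AlgSt.overMap h) y f) isEquivOver_id ε s3

section Pair

variable {X₁ X₂ : Over S} (w₁ : FibCat.overCat X₁ ⥤ᵇ 𝒳) (w₂ : FibCat.overCat X₂ ⥤ᵇ 𝒳)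

/-- the base change of the diagonal to `X₁ ×_S X₂` is `X₁ ×_𝒳 X₂ ⟶ X₁ ×_S X₂` -/
theorem magicSq_with₂ (P : MorphismProperty (Sp S))
    (h : AlgSt.RepByAlgSpWith P
      (magicI w₁ w₂ (FibCat.toSelf 𝒳) (magicIso w₁ w₂ (FibCat.toSelf 𝒳)))) :
    AlgSt.RepByAlgSpWith P (FibCat.fpFst (magicR w₁ w₂ (FibCat.toSelf 𝒳))
      (FibCat.diag (FibCat.toSelf 𝒳))) := by
  have h2 := magic_isTwoCartOver w₁ w₂ (FibCat.toSelf 𝒳) (magicIso w₁ w₂ _)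
    (fun x => magicIso_app w₁ w₂ _ x)
  exact repByAlgSpWith_of_square' P _ (magicI w₁ w₂ _ (magicIso w₁ w₂ _))
    (FibCat.fpLift _ _ (magicE w₁ w₂ _ _ (fun x => magicIso_app w₁ w₂ _ x))) (BasedFunctor.id _)
    h2 isEquivOver_id (Iso.refl _) h

/-- a point of `𝒳 ×_S 𝒳` both of whose components lift to charts lifts to the product of the
charts -/
theorem exists_lift_pair {T V : Over S}
    (y : FibCat.overCat T ⥤ᵇ FibCat.fp (FibCat.toSelf 𝒳) (FibCat.toSelf 𝒳)) (c : V ⟶ T)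
    (η₁ : V ⟶ X₁) (η₂ : V ⟶ X₂)
    (j₁ : BasedFunctor.comp (AlgSt.overMap η₁) w₁ ≅ BasedFunctor.comp (AlgSt.overMap c)
      (BasedFunctor.comp y (FibCat.fpFst _ _)))
    (j₂ : BasedFunctor.comp (AlgSt.overMap η₂) w₂ ≅ BasedFunctor.comp (AlgSt.overMap c)
      (BasedFunctor.comp y (FibCat.fpSnd _ _))) :
    ∃ z : FibCat.overCat V ⥤ᵇ FibCat.fp (BasedFunctor.comp w₁ (FibCat.toSelf 𝒳))
        (BasedFunctor.comp w₂ (FibCat.toSelf 𝒳)),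
      Nonempty (BasedFunctor.comp z (magicR w₁ w₂ (FibCat.toSelf 𝒳)) ≅
        BasedFunctor.comp (AlgSt.overMap c) y) := by
  obtain ⟨e₀⟩ : Nonempty (BasedFunctor.comp (AlgSt.overMap η₁)
      (BasedFunctor.comp w₁ (FibCat.toSelf 𝒳)) ≅
      BasedFunctor.comp (AlgSt.overMap η₂) (BasedFunctor.comp w₂ (FibCat.toSelf 𝒳))) :=
    ⟨eqToIso ((eq_toSelf _).trans (eq_toSelf _).symm)⟩
  obtain ⟨z, hz⟩ : ∃ z : FibCat.overCat V ⥤ᵇ FibCat.fp (BasedFunctor.comp w₁ (FibCat.toSelf 𝒳))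
      (BasedFunctor.comp w₂ (FibCat.toSelf 𝒳)),
      z = FibCat.fpLift (AlgSt.overMap η₁) (AlgSt.overMap η₂) e₀ := ⟨_, rfl⟩
  refine ⟨z, ⟨?_⟩⟩
  have hA₁ : BasedFunctor.comp (BasedFunctor.comp z (magicR w₁ w₂ (FibCat.toSelf 𝒳)))
      (FibCat.fpFst (FibCat.toSelf 𝒳) (FibCat.toSelf 𝒳)) =
      BasedFunctor.comp (AlgSt.overMap η₁) w₁ := by
    rw [hz]; apply basedFunctor_ext; rfl
  have hA₂ : BasedFunctor.comp (BasedFunctor.comp z (magicR w₁ w₂ (FibCat.toSelf 𝒳)))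
      (FibCat.fpSnd (FibCat.toSelf 𝒳) (FibCat.toSelf 𝒳)) =
      BasedFunctor.comp (AlgSt.overMap η₂) w₂ := by
    rw [hz]; apply basedFunctor_ext; rfl
  have hB₁ : BasedFunctor.comp (BasedFunctor.comp (AlgSt.overMap c) y)
      (FibCat.fpFst (FibCat.toSelf 𝒳) (FibCat.toSelf 𝒳)) =
      BasedFunctor.comp (AlgSt.overMap c) (BasedFunctor.comp y (FibCat.fpFst _ _)) := by
    apply basedFunctor_ext; rfl
  have hB₂ : BasedFunctor.comp (BasedFunctor.comp (AlgSt.overMap c) y)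
      (FibCat.fpSnd (FibCat.toSelf 𝒳) (FibCat.toSelf 𝒳)) =
      BasedFunctor.comp (AlgSt.overMap c) (BasedFunctor.comp y (FibCat.fpSnd _ _)) := by
    apply basedFunctor_ext; rfl
  exact isoOfComponents (FibCat.toSelf 𝒳) (FibCat.toSelf 𝒳) _ _
    (eqToIso hA₁ ≪≫ j₁ ≪≫ eqToIso hB₁.symm) (eqToIso hA₂ ≪≫ j₂ ≪≫ eqToIso hB₂.symm)

end Pair

section SpLevel

/-- an affine morphism followed by a quasi-affine morphism is quasi-affine -/
theorem isQuasiAffineMor_comp_affine_left {F₁ F₂ F₃ : Sp S} (a : F₁ ⟶ F₂) (b : F₂ ⟶ F₃)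
    (ha : RepWith @IsAffineHom a) (hb : IsQuasiAffineMor b) : IsQuasiAffineMor (a ≫ b) := by
  intro Z hZ g
  obtain ⟨W₂, i₂, fst₂, sq₂, hqa₂⟩ := hb hZ g
  haveI : W₂.left.IsQuasiAffine := hqa₂
  obtain ⟨W₁, i₁, fst₁, sq₁⟩ := ha.1 fst₂
  haveI hi₁ : IsAffineHom i₁.left := ha.2 fst₂ fst₁ i₁ sq₁
  refine ⟨W₁, i₁ ≫ i₂, fst₁, ?_, Scheme.IsQuasiAffine.of_isAffineHom i₁.left⟩
  rw [Functor.map_comp]
  exact sq₁.paste_vert sq₂

/-- a quasi-affine morphism followed by an affine morphism is quasi-affine -/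
theorem isQuasiAffineMor_comp_affine_right {F₁ F₂ F₃ : Sp S} (a : F₁ ⟶ F₂) (b : F₂ ⟶ F₃)
    (ha : IsQuasiAffineMor a) (hb : RepWith @IsAffineHom b) : IsQuasiAffineMor (a ≫ b) := by
  intro Z hZ g
  haveI : IsAffine Z.left := hZ
  obtain ⟨W₂, i₂, fst₂, sq₂⟩ := hb.1 g
  haveI hi₂ : IsAffineHom i₂.left := hb.2 g fst₂ i₂ sq₂
  have hW₂ : IsAffine W₂.left := isAffine_of_isAffineHom i₂.left
  obtain ⟨W₁, i₁, fst₁, sq₁, hqa₁⟩ := ha hW₂ fst₂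
  refine ⟨W₁, i₁ ≫ i₂, fst₁, ?_, hqa₁⟩
  rw [Functor.map_comp]
  exact sq₁.paste_vert sq₂

end SpLevel

lemma ofCharts_isQuasiAffineMor : OfCharts (IsQuasiAffineMor (S := S)) :=
  ofCharts_of_isLocalOnBase _
    (isLocalOnBase_fppf_of_fpqc Groth.Agent.H3.AlgSpCov.isLocalOnBase_fpqc_isQuasiAffineMor)

/-- the structure functor of `(Sch/X)` has `P₀` when `X ⟶ S` has -/
theorem repByAlgSpWith_toSelf_overCat (P₀ : MorphismProperty Scheme.{u})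
    [P₀.IsStableUnderBaseChange] [P₀.IsMultiplicative] (X : Over S) (hX : P₀ X.hom) :
    AlgSt.RepByAlgSpWith (RepWith P₀) (FibCat.toSelf (FibCat.overCat X)) := by
  have hG := goodC_repWith (S := S) P₀
  obtain ⟨tX, htX⟩ : ∃ tX : (yon S).obj X ⟶ termSp, tX = termSpIsTerminal.from _ := ⟨_, rfl⟩
  obtain ⟨toS, htoS⟩ : ∃ toS : X ⟶ Over.mk (𝟙 S), toS.left = X.hom :=
    ⟨Over.homMk X.hom (by simp), rfl⟩
  have h0 : tX = (yon S).map toS := termSpIsTerminal.hom_ext _ _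
  have h1 : RepWith P₀ tX := by
    rw [h0]
    exact (repWith_yon_map_iff P₀ toS).2 (by rw [htoS]; exact hX)
  have h2 : AlgSt.RepByAlgSpWith (RepWith P₀) (Stk.ofPshMap tX.hom) :=
    (repByAlgSpWith_ofPshMap_iff (RepWith P₀) hG.bc hG.charts (IsAlgSpace.yon_obj X)
      (IsAlgSpace.yon_obj _) tX).2 h1
  let ε : BasedFunctor.comp (Stk.ofPshMap tX.hom)
        (FibCat.toSelf (Stk.ofPsh (termSp (S := S)).obj)) ≅
      BasedFunctor.comp (toOver X) (FibCat.toSelf (FibCat.overCat X)) :=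
    eqToIso ((eq_toSelf _).trans (eq_toSelf _).symm)
  exact repByAlgSpWith_of_square' (RepWith P₀) (FibCat.toSelf (FibCat.overCat X))
    (Stk.ofPshMap tX.hom) (toOver X) (FibCat.toSelf (Stk.ofPsh (termSp (S := S)).obj))
    (isEquivOver_toOver X) isEquivOver_toSelf_termSp ε h2

section Pair2

variable {X₁ X₂ : Over S} (w₁ : FibCat.overCat X₁ ⥤ᵇ 𝒳) (w₂ : FibCat.overCat X₂ ⥤ᵇ 𝒳)

/-- `X₁ ×_𝒳 X₂ ⟶ X₁ ×_S X₂` is quasi-affine when `w₂` is and the diagonal of `X₂ ⟶ S` is affine -/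
theorem repByAlgSpWith_magicI_pair (h𝒳 : FibCat.IsFibGrpd 𝒳.p)
    (hw₂ : AlgSt.RepByAlgSpWith IsQuasiAffineMor w₂)
    (hX₂ : IsAffineHom (pullback.diagonal X₂.hom)) :
    AlgSt.RepByAlgSpWith IsQuasiAffineMor
      (magicI w₁ w₂ (FibCat.toSelf 𝒳) (magicIso w₁ w₂ (FibCat.toSelf 𝒳))) := by
  have hU₁ := (isFibSetoid_overCat X₁).1
  have hU₂ := (isFibSetoid_overCat X₂).1
  have hΔ : AlgSt.RepByAlgSpWith (RepWith @IsAffineHom)
      (FibCat.diag (BasedFunctor.comp w₂ (FibCat.toSelf 𝒳))) := by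
    rw [eq_toSelf (BasedFunctor.comp w₂ (FibCat.toSelf 𝒳))]
    exact diag_toSelf_overCat @IsAffineHom X₂ hX₂
  have ha : AlgSt.RepByAlgSpWith IsQuasiAffineMor (FibCat.fpFst w₁ w₂) :=
    repByAlgSpWith_fpFst IsQuasiAffineMor w₂ w₁ hw₂
  have hb : AlgSt.RepByAlgSpWith (RepWith @IsAffineHom)
      (FibCat.diag (FibCat.fpFst (BasedFunctor.comp w₁ (FibCat.toSelf 𝒳))
        (BasedFunctor.comp w₂ (FibCat.toSelf 𝒳)))) :=
    repByAlgSpWith_diag_fpFst (RepWith @IsAffineHom) _ _ hΔ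
  have e : BasedFunctor.comp (magicI w₁ w₂ (FibCat.toSelf 𝒳) (magicIso w₁ w₂ (FibCat.toSelf 𝒳)))
      (FibCat.fpFst (BasedFunctor.comp w₁ (FibCat.toSelf 𝒳))
        (BasedFunctor.comp w₂ (FibCat.toSelf 𝒳))) ≅ FibCat.fpFst w₁ w₂ :=
    eqToIso (by apply basedFunctor_ext; rfl)
  have e' : BasedFunctor.comp (BasedFunctor.id _) (FibCat.fpFst w₁ w₂) ≅
      BasedFunctor.comp (magicI w₁ w₂ (FibCat.toSelf 𝒳) (magicIso w₁ w₂ (FibCat.toSelf 𝒳)))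
        (FibCat.fpFst (BasedFunctor.comp w₁ (FibCat.toSelf 𝒳))
          (BasedFunctor.comp w₂ (FibCat.toSelf 𝒳))) := e.symm
  have h1 := Groth.Agent.H3.AlgStDiagMore.repByAlgSpWith_graph
    (RepWith @IsAffineHom) (FibCat.fpFst w₁ w₂)
    (FibCat.fpFst (BasedFunctor.comp w₁ (FibCat.toSelf 𝒳))
      (BasedFunctor.comp w₂ (FibCat.toSelf 𝒳)))
    (magicI w₁ w₂ (FibCat.toSelf 𝒳) (magicIso w₁ w₂ (FibCat.toSelf 𝒳))) e' hb
  have h2 := Groth.Agent.H3.AlgStStackRep.repByAlgSpWith_fpSnd IsQuasiAffineMor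
    (FibCat.fpFst w₁ w₂)
    (FibCat.fpFst (BasedFunctor.comp w₁ (FibCat.toSelf 𝒳))
      (BasedFunctor.comp w₂ (FibCat.toSelf 𝒳))) ha
  have hG := goodC_repWith (S := S) @IsAffineHom
  have h3 := repByAlgSpWith_comp_mixed (X6401 w₁ w₂ hU₁ hU₂ h𝒳)
    (X6401 _ _ (X6401 w₁ w₂ hU₁ hU₂ h𝒳) (X6401 _ _ hU₁ hU₂ isFibGrpd_id) hU₁)
    (RepWith @IsAffineHom) IsQuasiAffineMor IsQuasiAffineMor
    hG.bc hG.charts (fun _ _ _ _ _ _ a b ha hb => isQuasiAffineMor_comp_affine_left a b ha hb)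
    _ _ h1 h2
  have h4 : BasedFunctor.comp (FibCat.fpLift (BasedFunctor.id _)
      (magicI w₁ w₂ (FibCat.toSelf 𝒳) (magicIso w₁ w₂ (FibCat.toSelf 𝒳))) e')
      (FibCat.fpSnd (FibCat.fpFst w₁ w₂)
        (FibCat.fpFst (BasedFunctor.comp w₁ (FibCat.toSelf 𝒳))
          (BasedFunctor.comp w₂ (FibCat.toSelf 𝒳)))) =
      magicI w₁ w₂ (FibCat.toSelf 𝒳) (magicIso w₁ w₂ (FibCat.toSelf 𝒳)) := by
    apply basedFunctor_ext; rfl
  rw [h4] at h3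
  exact h3

end Pair2

/-- **charts from affine-over-the-base schemes are quasi-affine** when the diagonal is -/
theorem rep_qa_chart_of_diag (h𝒳 : FibCat.IsFibGrpd 𝒳.p)
    (hΔ1 : AlgSt.RepByAlgSp1 (FibCat.diag (FibCat.toSelf 𝒳)))
    (hΔ : AlgSt.RepByAlgSpWith IsQuasiAffineMor (FibCat.diag (FibCat.toSelf 𝒳)))
    {V : Over S} (hV : IsAffineHom V.hom) (w : FibCat.overCat V ⥤ᵇ 𝒳) :
    AlgSt.RepByAlgSpWith IsQuasiAffineMor w := by
  have hw1 : AlgSt.RepByAlgSp1 w := repByAlgSp1_chart_of_diag h𝒳 hΔ1 V w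
  apply repByAlgSpWith_of_forall_fpFst IsQuasiAffineMor baseChangeSp_isQuasiAffineMor
    ofCharts_isQuasiAffineMor w hw1
  intro T y
  have hT := (isFibSetoid_overCat T).1
  have hV' := (isFibSetoid_overCat V).1
  have h1 : AlgSt.RepByAlgSpWith IsQuasiAffineMor
      (magicI y w (FibCat.toSelf 𝒳) (magicIso y w (FibCat.toSelf 𝒳))) :=
    repByAlgSpWith_magicI' IsQuasiAffineMor y w (FibCat.toSelf 𝒳) hΔ
  have hwt : AlgSt.RepByAlgSpWith (RepWith @IsAffineHom)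
      (BasedFunctor.comp w (FibCat.toSelf 𝒳)) := by
    rw [eq_toSelf (BasedFunctor.comp w (FibCat.toSelf 𝒳))]
    exact repByAlgSpWith_toSelf_overCat @IsAffineHom V hV
  have h2 : AlgSt.RepByAlgSpWith (RepWith @IsAffineHom)
      (FibCat.fpFst (BasedFunctor.comp y (FibCat.toSelf 𝒳))
        (BasedFunctor.comp w (FibCat.toSelf 𝒳))) :=
    repByAlgSpWith_fpFst _ (BasedFunctor.comp w (FibCat.toSelf 𝒳))
      (BasedFunctor.comp y (FibCat.toSelf 𝒳)) hwt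
  have h3 := repByAlgSpWith_comp_mixed (X6401 y w hT hV' h𝒳)
    (X6401 _ _ hT hV' isFibGrpd_id)
    IsQuasiAffineMor (RepWith @IsAffineHom) IsQuasiAffineMor
    baseChangeSp_isQuasiAffineMor ofCharts_isQuasiAffineMor
    (fun _ _ _ _ _ _ a b ha hb => isQuasiAffineMor_comp_affine_right a b ha hb) _ _ h1 h2
  have h4 : BasedFunctor.comp (magicI y w (FibCat.toSelf 𝒳) (magicIso y w (FibCat.toSelf 𝒳)))
      (FibCat.fpFst (BasedFunctor.comp y (FibCat.toSelf 𝒳))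
        (BasedFunctor.comp w (FibCat.toSelf 𝒳))) = FibCat.fpFst y w := by
    apply basedFunctor_ext; rfl
  rw [h4] at h3
  exact h3

section Atlas

variable {U : Over S} (x : FibCat.overCat U ⥤ᵇ 𝒳)

/-- every point factors fppf locally through a flat, locally finitely presented, surjective
chart -/
theorem flocFac_of_fppf (hx₁ : AlgSt.RepByAlgSpWith (LocP @Flat) x)
    (hx₂ : AlgSt.RepByAlgSpWith (LocP @LocallyOfFinitePresentation) x)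
    (hx₃ : AlgSt.RepByAlgSpWith IsSurjectiveMor x) : FLocFac x := by
  intro T y
  obtain ⟨T', c, t, hc1, hc2, hc3, ⟨ι⟩⟩ := exists_fppf_chart x hx₁ hx₂ hx₃ T y
  obtain ⟨ξ, ⟨κ⟩⟩ := Groth.Agent.H3.AlgStPoints.exists_overMap_iso t
  exact ⟨T', c, ξ, hc1, hc2, ⟨hc3⟩, ⟨(whiskerR κ x).symm ≪≫ ι⟩⟩

/-- the restriction of the chart to an open subscheme -/
noncomputable abbrev resChart (A : U.left.Opens) :
    FibCat.overCat (Over.mk (A.ι ≫ U.hom)) ⥤ᵇ 𝒳 :=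
  BasedFunctor.comp (AlgSt.overMap (Over.homMk A.ι rfl : Over.mk (A.ι ≫ U.hom) ⟶ U)) x

/-- a common fppf-local lift of the two components of a point of `𝒳 ×_S 𝒳` -/
theorem exists_common_lift (hloc : FLocFac x) (T : Over S)
    (y : FibCat.overCat T ⥤ᵇ FibCat.fp (FibCat.toSelf 𝒳) (FibCat.toSelf 𝒳)) :
    ∃ (V : Over S) (c : V ⟶ T) (η₁ η₂ : V ⟶ U),
      Flat c.left ∧ LocallyOfFinitePresentation c.left ∧ Surjective c.left ∧
      Nonempty (BasedFunctor.comp (AlgSt.overMap η₁) x ≅ BasedFunctor.comp (AlgSt.overMap c)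
        (BasedFunctor.comp y (FibCat.fpFst _ _))) ∧
      Nonempty (BasedFunctor.comp (AlgSt.overMap η₂) x ≅ BasedFunctor.comp (AlgSt.overMap c)
        (BasedFunctor.comp y (FibCat.fpSnd _ _))) := by
  obtain ⟨x₁, hx₁⟩ : ∃ x₁ : FibCat.overCat T ⥤ᵇ 𝒳,
    x₁ = BasedFunctor.comp y (FibCat.fpFst _ _) := ⟨_, rfl⟩
  obtain ⟨x₂, hx₂⟩ : ∃ x₂ : FibCat.overCat T ⥤ᵇ 𝒳,
    x₂ = BasedFunctor.comp y (FibCat.fpSnd _ _) := ⟨_, rfl⟩
  obtain ⟨V₁, c₁, ξ₁, h1e, h1f, h1s, ⟨ι₁⟩⟩ := hloc T x₁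
  obtain ⟨V₂, c₂, ξ₂, h2e, h2f, h2s, ⟨ι₂⟩⟩ := hloc T x₂
  obtain ⟨V, p₁, p₂, sq⟩ : ∃ (V : Over S) (p₁ : V ⟶ V₁) (p₂ : V ⟶ V₂), IsPullback p₁ p₂ c₁ c₂ :=
    ⟨_, _, _, IsPullback.of_hasPullback c₁ c₂⟩
  have sqL : IsPullback p₁.left p₂.left c₁.left c₂.left := sq.map (Over.forget S)
  have hp₁e : Flat p₁.left := MorphismProperty.of_isPullback (P := @Flat) sqL.flip h2e
  have hp₁f : LocallyOfFinitePresentation p₁.left :=
    MorphismProperty.of_isPullback (P := @LocallyOfFinitePresentation) sqL.flip h2f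
  have hp₁s : Surjective p₁.left := MorphismProperty.of_isPullback (P := @Surjective) sqL.flip h2s
  obtain ⟨c, hc₁⟩ : ∃ c : V ⟶ T, p₁ ≫ c₁ = c := ⟨_, rfl⟩
  have hc₂ : p₂ ≫ c₂ = c := by rw [← hc₁, sq.w]
  have hce : Flat c.left := by
    rw [← hc₁, Over.comp_left]
    haveI := hp₁e
    haveI := h1e
    infer_instance
  have hcf : LocallyOfFinitePresentation c.left := by
    rw [← hc₁, Over.comp_left]
    haveI := hp₁f
    haveI := h1f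
    infer_instance
  have hcs : Surjective c.left := by
    rw [← hc₁, Over.comp_left]
    haveI := hp₁s
    haveI := h1s
    infer_instance
  obtain ⟨η₁, hη₁⟩ : ∃ η₁ : V ⟶ U, p₁ ≫ ξ₁ = η₁ := ⟨_, rfl⟩
  obtain ⟨η₂, hη₂⟩ : ∃ η₂ : V ⟶ U, p₂ ≫ ξ₂ = η₂ := ⟨_, rfl⟩
  obtain ⟨k₁⟩ : Nonempty (BasedFunctor.comp (AlgSt.overMap p₁) (AlgSt.overMap ξ₁) ≅
      AlgSt.overMap η₁) := by rw [← hη₁]; exact overMapComp p₁ ξ₁
  obtain ⟨k₂⟩ : Nonempty (BasedFunctor.comp (AlgSt.overMap p₂) (AlgSt.overMap ξ₂) ≅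
      AlgSt.overMap η₂) := by rw [← hη₂]; exact overMapComp p₂ ξ₂
  obtain ⟨k₁'⟩ : Nonempty (BasedFunctor.comp (AlgSt.overMap p₁) (AlgSt.overMap c₁) ≅
      AlgSt.overMap c) := by rw [← hc₁]; exact overMapComp p₁ c₁
  obtain ⟨k₂'⟩ : Nonempty (BasedFunctor.comp (AlgSt.overMap p₂) (AlgSt.overMap c₂) ≅
      AlgSt.overMap c) := by rw [← hc₂]; exact overMapComp p₂ c₂
  have j₁ : BasedFunctor.comp (AlgSt.overMap η₁) x ≅ BasedFunctor.comp (AlgSt.overMap c) x₁ :=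
    (whiskerR k₁ x).symm ≪≫ whiskerL (AlgSt.overMap p₁) ι₁ ≪≫ whiskerR k₁' x₁
  have j₂ : BasedFunctor.comp (AlgSt.overMap η₂) x ≅ BasedFunctor.comp (AlgSt.overMap c) x₂ :=
    (whiskerR k₂ x).symm ≪≫ whiskerL (AlgSt.overMap p₂) ι₂ ≪≫ whiskerR k₂' x₂
  subst hx₁ hx₂
  exact ⟨V, c, η₁, η₂, hce, hcf, hcs, ⟨j₁⟩, ⟨j₂⟩⟩

/-- the restriction of a lift to an open subscheme mapping into an open subscheme of the chart -/
theorem exists_res_iso {T V : Over S} (c : V ⟶ T) (η : V ⟶ U) (x₁ : FibCat.overCat T ⥤ᵇ 𝒳)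
    (j : BasedFunctor.comp (AlgSt.overMap η) x ≅ BasedFunctor.comp (AlgSt.overMap c) x₁)
    (A : U.left.Opens) (W : V.left.Opens) (hWA : W ≤ η.left ⁻¹ᵁ A) :
    ∃ η' : Over.mk (W.ι ≫ V.hom) ⟶ Over.mk (A.ι ≫ U.hom),
      Nonempty (BasedFunctor.comp (AlgSt.overMap η') (resChart x A) ≅
        BasedFunctor.comp (AlgSt.overMap
          ((Over.homMk W.ι rfl : Over.mk (W.ι ≫ V.hom) ⟶ V) ≫ c)) x₁) := by
  obtain ⟨ιW, hιW⟩ : ∃ ιW : Over.mk (W.ι ≫ V.hom) ⟶ V, ιW = Over.homMk W.ι rfl := ⟨_, rfl⟩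
  obtain ⟨ιA, hιA⟩ : ∃ ιA : Over.mk (A.ι ≫ U.hom) ⟶ U, ιA = Over.homMk A.ι rfl := ⟨_, rfl⟩
  have hιWl : ιW.left = W.ι := by rw [hιW]; rfl
  have hιAl : ιA.left = A.ι := by rw [hιA]; rfl
  have hw : η.left.resLE A W hWA ≫ (A.ι ≫ U.hom) = W.ι ≫ V.hom := by
    rw [Scheme.Hom.resLE_comp_ι_assoc, Over.w η]
  obtain ⟨η', hη'⟩ : ∃ η' : Over.mk (W.ι ≫ V.hom) ⟶ Over.mk (A.ι ≫ U.hom),
      η'.left = η.left.resLE A W hWA := ⟨Over.homMk (η.left.resLE A W hWA) hw, rfl⟩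
  have heq : η' ≫ ιA = ιW ≫ η := by
    apply Over.OverMorphism.ext
    rw [Over.comp_left, Over.comp_left, hη', hιAl, hιWl]
    exact Scheme.Hom.resLE_comp_ι _ _
  obtain ⟨k₁⟩ : Nonempty (BasedFunctor.comp (AlgSt.overMap η') (AlgSt.overMap ιA) ≅
      AlgSt.overMap (ιW ≫ η)) := by rw [← heq]; exact overMapComp η' ιA
  obtain ⟨k₂⟩ := overMapComp ιW η
  obtain ⟨k₃⟩ := overMapComp ιW c
  have key : BasedFunctor.comp (AlgSt.overMap η') (BasedFunctor.comp (AlgSt.overMap ιA) x) ≅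
      BasedFunctor.comp (AlgSt.overMap (ιW ≫ c)) x₁ :=
    whiskerR k₁ x ≪≫ (whiskerR k₂ x).symm ≪≫ whiskerL (AlgSt.overMap ιW) j ≪≫
      whiskerR k₃ x₁
  subst hιW hιA
  exact ⟨η', ⟨key⟩⟩

/-- **fppf-local lifting to products of affine opens of the chart** -/
theorem exists_family_lift (hloc : FLocFac x) (T : Over S)
    (y : FibCat.overCat T ⥤ᵇ FibCat.fp (FibCat.toSelf 𝒳) (FibCat.toSelf 𝒳)) :
    ∃ R ∈ J S T, ∀ ⦃V : Over S⦄ (h : V ⟶ T), R.arrows h →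
      ∃ (A₁ A₂ : U.left.Opens), IsAffineOpen A₁ ∧ IsAffineOpen A₂ ∧
        ∃ z : FibCat.overCat V ⥤ᵇ
            FibCat.fp (BasedFunctor.comp (resChart x A₁) (FibCat.toSelf 𝒳))
              (BasedFunctor.comp (resChart x A₂) (FibCat.toSelf 𝒳)),
          Nonempty (BasedFunctor.comp z
            (magicR (resChart x A₁) (resChart x A₂) (FibCat.toSelf 𝒳)) ≅
              BasedFunctor.comp (AlgSt.overMap h) y) := by
  obtain ⟨V, c, η₁, η₂, hce, hcf, hcs, ⟨j₁⟩, ⟨j₂⟩⟩ := exists_common_lift x hloc T y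
  have hA₁ : ∀ v : V.left, ∃ A : U.left.Opens, IsAffineOpen A ∧ η₁.left v ∈ A := fun v => by
    obtain ⟨A, hA, hmem, -⟩ := exists_isAffineOpen_mem_and_subset
      (x := η₁.left v) (U := ⊤) (by trivial)
    exact ⟨A, hA, hmem⟩
  have hA₂ : ∀ v : V.left, ∃ A : U.left.Opens, IsAffineOpen A ∧ η₂.left v ∈ A := fun v => by
    obtain ⟨A, hA, hmem, -⟩ := exists_isAffineOpen_mem_and_subset
      (x := η₂.left v) (U := ⊤) (by trivial)
    exact ⟨A, hA, hmem⟩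
  choose A₁ hA₁aff hA₁mem using hA₁
  choose A₂ hA₂aff hA₂mem using hA₂
  obtain ⟨W, hW⟩ : ∃ W : V.left → V.left.Opens,
      W = fun v => (η₁.left ⁻¹ᵁ A₁ v) ⊓ (η₂.left ⁻¹ᵁ A₂ v) := ⟨_, rfl⟩
  have hWmem : ∀ v, v ∈ W v := fun v => by
    rw [hW]
    exact ⟨hA₁mem v, hA₂mem v⟩
  have hW₁ : ∀ v, W v ≤ η₁.left ⁻¹ᵁ A₁ v := fun v => by rw [hW]; exact inf_le_left
  have hW₂ : ∀ v, W v ≤ η₂.left ⁻¹ᵁ A₂ v := fun v => by rw [hW]; exact inf_le_right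
  obtain ⟨V', hV'⟩ : ∃ V' : V.left → Over S, V' = fun v => Over.mk ((W v).ι ≫ V.hom) :=
    ⟨_, rfl⟩
  subst hV'
  obtain ⟨h, hh⟩ : ∃ h : ∀ v : V.left, Over.mk ((W v).ι ≫ V.hom) ⟶ T,
      h = fun v => (Over.homMk (W v).ι rfl : Over.mk ((W v).ι ≫ V.hom) ⟶ V) ≫ c := ⟨_, rfl⟩
  have hleft : ∀ v, (h v).left = (W v).ι ≫ c.left := fun v => by rw [hh]; rfl
  refine ⟨Sieve.generate (Presieve.ofArrows (fun v => Over.mk ((W v).ι ≫ V.hom)) h), ?_, ?_⟩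
  · rw [Groth.Agent.H5.AlgSp.mem_J_iff]
    refine ⟨Presieve.ofArrows (fun v => Over.mk ((W v).ι ≫ V.hom)) h, ?_,
      Sieve.le_generate _⟩
    rw [Presieve.map_ofArrows]
    unfold Scheme.fppfPrecoverage
    refine (Scheme.ofArrows_mem_precoverage_iff (@Flat ⊓ @LocallyOfFinitePresentation)
      (S := T.left) (X := fun v => (Over.mk ((W v).ι ≫ V.hom)).left)
      (f := fun v => (h v).left)).2 ⟨?_, ?_⟩
    · intro t
      obtain ⟨v, hv⟩ := hcs.surj t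
      refine ⟨v, ⟨⟨v, hWmem v⟩, ?_⟩⟩
      rw [hleft, Scheme.Hom.comp_apply]
      exact hv
    · intro v
      haveI := hce
      haveI := hcf
      rw [hleft]
      exact ⟨inferInstance, inferInstance⟩
  · rintro V'' hh' ⟨Y, k, g, ⟨v⟩, rfl⟩
    obtain ⟨η₁', ⟨i₁⟩⟩ := exists_res_iso x c η₁ _ j₁ (A₁ v) (W v) (hW₁ v)
    obtain ⟨η₂', ⟨i₂⟩⟩ := exists_res_iso x c η₂ _ j₂ (A₂ v) (W v) (hW₂ v)
    have hhv : h v = (Over.homMk (W v).ι rfl : Over.mk ((W v).ι ≫ V.hom) ⟶ V) ≫ c := by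
      rw [hh]
    rw [← hhv] at i₁ i₂
    obtain ⟨z, ⟨ιz⟩⟩ := exists_lift_pair (resChart x (A₁ v)) (resChart x (A₂ v)) y (h v)
      η₁' η₂' i₁ i₂
    obtain ⟨κ⟩ := overMapComp k (h v)
    exact ⟨A₁ v, A₂ v, hA₁aff v, hA₂aff v, BasedFunctor.comp (AlgSt.overMap k) z,
      ⟨whiskerL (AlgSt.overMap k) ιz ≪≫ whiskerR κ y⟩⟩

end Atlas

/-- **S16858** -/
theorem qa_diag_iff_exists_chart [IsAffine S]
    (h𝒳 : AlgSt.IsAlgStack Scheme.fppfPrecoverage 𝒳) :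
    AlgSt.RepByAlgSpWith AlgSp.IsQuasiAffineMor (FibCat.diag (FibCat.toSelf 𝒳)) ↔
      ∃ (U : Over S) (x : FibCat.overCat U ⥤ᵇ 𝒳),
        AlgSt.RepByAlgSpWith (AlgSp.LocP @Smooth) x ∧ AlgSt.RepByAlgSpWith AlgSp.IsSurjectiveMor x ∧
          ∀ (V : U.left.Opens), IsAffineOpen V →
            AlgSt.RepByAlgSpWith AlgSp.IsQuasiAffineMor
              (BasedFunctor.comp
                (AlgSt.overMap (Over.homMk V.ι rfl : Over.mk (V.ι ≫ U.hom) ⟶ U)) x) := by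
  constructor
  · intro hΔ
    obtain ⟨U, x, hx₁, hx₂⟩ := h𝒳.atlas
    refine ⟨U, x, hx₁, hx₂, fun V hV => ?_⟩
    haveI : IsAffine (V : Scheme.{u}) := hV
    have hVa : IsAffineHom (Over.mk (V.ι ≫ U.hom)).hom :=
      (inferInstance : IsAffineHom (V.ι ≫ U.hom))
    exact rep_qa_chart_of_diag h𝒳.isStack.1 h𝒳.diag hΔ hVa _
  · rintro ⟨U, x, hx₁, hx₂, hqa⟩
    have hloc : FLocFac x := flocFac_of_fppf x
      (repByAlgSpWith_mono (locP_mono smooth_le_flat) hx₁)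
      (repByAlgSpWith_mono (locP_mono smooth_le_lfp) hx₁) hx₂
    apply repByAlgSpWith_descent_family IsQuasiAffineMor baseChangeSp_isQuasiAffineMor
      (isLocalOnBase_fppf_of_fpqc Groth.Agent.H3.AlgSpCov.isLocalOnBase_fpqc_isQuasiAffineMor)
      (FibCat.diag (FibCat.toSelf 𝒳)) h𝒳.diag
    intro T y
    obtain ⟨R, hR, hlift⟩ := exists_family_lift x hloc T y
    refine ⟨R, hR, fun V h hh => ?_⟩
    obtain ⟨A₁, A₂, hA₁, hA₂, z, hz⟩ := hlift h hh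
    refine ⟨_, magicR (resChart x A₁) (resChart x A₂) (FibCat.toSelf 𝒳), z, hz, ?_⟩
    apply magicSq_with₂
    haveI : IsAffine (A₂ : Scheme.{u}) := hA₂
    haveI hA₂a : IsAffineHom (A₂.ι ≫ U.hom) := inferInstance
    have hd : IsAffineHom (pullback.diagonal (Over.mk (A₂.ι ≫ U.hom)).hom) :=
      (inferInstance : IsAffineHom (pullback.diagonal (A₂.ι ≫ U.hom)))
    exact repByAlgSpWith_magicI_pair (resChart x A₁) (resChart x A₂) h𝒳.isStack.1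
      (hqa A₂ hA₂) hd

end Groth.Agent.H3.QDiag
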